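/-
Fusion lemmas for Glauberman's theorem on automorphisms fixing a Sylow `2`-subgroup pointwise.

`isolated_of_local`: an Alperin-style argument. If `T ≤ Z(P)` (`P` Sylow in `Γ`), `τ ∈ T`, and the
normalizer of every `R`, `T ≤ R ≤ P`, with `N_P(R)` Sylow in `N_Γ(R)` centralizes `τ`, then `τ` is the
only conjugate of itself in `P`.
-/
import Mathlib
import Cfsg.Agent.Lib.Coprime.Action

set_option autoImplicit false
set_option linter.style.haveILetI false

namespace Cfsg.Agent.Lib.LBal.Fusion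

open Subgroup Cfsg.Agent.Lib.Coprime.Action

universe u

variable {Γ : Type u} [Group Γ]

/-- Conjugate of a subgroup. -/
def cj (g : Γ) (R : Subgroup Γ) : Subgroup Γ := R.map (MulAut.conj g).toMonoidHom

theorem mem_cj {g x : Γ} {R : Subgroup Γ} : x ∈ cj g R ↔ g⁻¹ * x * g ∈ R := by
  constructor
  · rintro ⟨r, hr, rfl⟩
    have : g⁻¹ * ((MulAut.conj g).toMonoidHom r) * g = r := by
      simp only [MulEquiv.coe_toMonoidHom, MulAut.conj_apply]
      group
    rwa [this]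
  · intro h
    exact ⟨_, h, by
      simp only [MulEquiv.coe_toMonoidHom, MulAut.conj_apply]
      group⟩

theorem conj_mem_cj {g r : Γ} {R : Subgroup Γ} (hr : r ∈ R) : g * r * g⁻¹ ∈ cj g R := by
  rw [mem_cj]
  have : g⁻¹ * (g * r * g⁻¹) * g = r := by group
  rwa [this]

theorem cj_cj (g h : Γ) (R : Subgroup Γ) : cj g (cj h R) = cj (g * h) R := by
  ext x
  simp only [mem_cj]
  have : h⁻¹ * (g⁻¹ * x * g) * h = (g * h)⁻¹ * x * (g * h) := by group
  rw [this]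

theorem cj_one (R : Subgroup Γ) : cj 1 R = R := by
  ext x
  simp [mem_cj]

theorem card_cj (g : Γ) (R : Subgroup Γ) : Nat.card (cj g R) = Nat.card R :=
  Nat.card_congr (R.equivMapOfInjective _ (MulEquiv.injective _)).symm.toEquiv

theorem cj_le_iff {g : Γ} {R S : Subgroup Γ} : cj g R ≤ S ↔ ∀ r ∈ R, g * r * g⁻¹ ∈ S := by
  constructor
  · intro h r hr
    exact h (conj_mem_cj hr)
  · intro h x hx
    have h1 := h _ (mem_cj.mp hx)
    have e : g * (g⁻¹ * x * g) * g⁻¹ = x := by group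
    rwa [e] at h1

theorem mem_normalizer_of_cj {g : Γ} {R : Subgroup Γ} (h : cj g R = R) :
    g ∈ normalizer (R : Set Γ) := by
  rw [mem_normalizer_iff]
  intro x
  constructor
  · intro hx
    have := conj_mem_cj (g := g) hx
    rwa [h] at this
  · intro hx
    rw [← h] at hx
    have := mem_cj.mp hx
    have e : g⁻¹ * (g * x * g⁻¹) * g = x := by group
    rwa [e] at this

theorem cj_eq_of_mem_normalizer {g : Γ} {R : Subgroup Γ} (h : g ∈ normalizer (R : Set Γ)) :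
    cj g R = R := by
  ext x
  rw [mem_cj]
  have h1 := (mem_normalizer_iff.mp ((normalizer (R : Set Γ)).inv_mem h)) x
  simp only [inv_inv] at h1
  exact h1.symm

theorem cj_le_normalizer_of {g : Γ} {R : Subgroup Γ} :
    normalizer (cj g R : Set Γ) = cj g (normalizer (R : Set Γ)) := by
  ext x
  rw [mem_cj, mem_normalizer_iff, mem_normalizer_iff]
  constructor
  · intro h y
    have h1 := h (g * y * g⁻¹)
    rw [mem_cj, mem_cj] at h1
    have e1 : g⁻¹ * (g * y * g⁻¹) * g = y := by group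
    have e2 : g⁻¹ * (x * (g * y * g⁻¹) * x⁻¹) * g
        = g⁻¹ * x * g * y * (g⁻¹ * x * g)⁻¹ := by group
    rwa [e1, e2] at h1
  · intro h y
    rw [mem_cj, mem_cj]
    have h1 := h (g⁻¹ * y * g)
    have e2 : g⁻¹ * x * g * (g⁻¹ * y * g) * (g⁻¹ * x * g)⁻¹ = g⁻¹ * (x * y * x⁻¹) * g := by group
    rwa [e2] at h1

variable [Finite Γ] {p : ℕ} [hp : Fact p.Prime]

/-- Sylow's theorem inside a subgroup. -/
theorem exists_conj_le {Q K B : Subgroup Γ} (hQ : IsSylowIn p Q K) (hBK : B ≤ K)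
    (hB : IsPGroup p B) : ∃ c ∈ K, ∀ b ∈ B, c * b * c⁻¹ ∈ Q := by
  obtain ⟨Q', rfl⟩ := exists_sylow_of_isSylowIn hQ
  have hB' : IsPGroup p (B.subgroupOf K) := hB.comap_subtype
  obtain ⟨W, hW⟩ := hB'.exists_le_sylow
  obtain ⟨c, hc⟩ := MulAction.exists_smul_eq K W Q'
  refine ⟨c, c.2, fun b hb => ?_⟩
  have h1 : (⟨b, hBK hb⟩ : K) ∈ (W : Subgroup K) := hW hb
  have h2 : c * (⟨b, hBK hb⟩ : K) * c⁻¹ ∈ (Q' : Subgroup K) := by
    rw [← hc, Sylow.coe_subgroup_smul]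
    exact ⟨_, h1, rfl⟩
  exact ⟨_, h2, rfl⟩

/-- A `p`-subgroup of `K` lies in a Sylow subgroup of `K`. -/
theorem exists_isSylowIn_ge {K B : Subgroup Γ} (hBK : B ≤ K) (hB : IsPGroup p B) :
    ∃ Q, IsSylowIn p Q K ∧ B ≤ Q := by
  have hB' : IsPGroup p (B.subgroupOf K) := hB.comap_subtype
  obtain ⟨W, hW⟩ := hB'.exists_le_sylow
  refine ⟨(W : Subgroup K).map K.subtype, isSylowIn_map W, fun b hb => ?_⟩
  exact ⟨⟨b, hBK hb⟩, hW hb, rfl⟩

theorem isSylowIn_of_le {P K : Subgroup Γ} (hP : IsPGroup p P) (hi : ¬ p ∣ P.index) (hPK : P ≤ K) :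
    IsSylowIn p P K := by
  refine ⟨hPK, hP, fun h => hi ?_⟩
  rw [← Subgroup.relIndex_mul_index hPK]
  exact Dvd.dvd.mul_right h _

/-- Normalizers grow in `p`-groups. -/
theorem lt_inf_normalizer {P R : Subgroup Γ} (hP : IsPGroup p P) (hRP : R < P) :
    R < P ⊓ normalizer (R : Set Γ) := by
  haveI : Group.IsNilpotent P := hP.isNilpotent
  have hlt : R.subgroupOf P < ⊤ := by
    rw [lt_top_iff_ne_top]
    intro h
    have h1 : P ≤ R := by
      rw [Subgroup.subgroupOf_eq_top] at h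
      exact h
    exact absurd h1 (not_le_of_gt hRP)
  have h2 := Group.normalizerCondition_of_isNilpotent (G := P) _ hlt
  obtain ⟨x, hx, hxR⟩ := SetLike.exists_of_lt h2
  have hRle : R ≤ P ⊓ normalizer (R : Set Γ) :=
    le_inf hRP.le le_normalizer
  refine lt_of_le_of_ne hRle ?_
  intro h
  apply hxR
  have hx' : (x : Γ) ∈ normalizer (R : Set Γ) := by
    rw [mem_normalizer_iff]
    intro y
    constructor
    · intro hy
      have hyP : y ∈ P := hRP.le hy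
      have h3 := (mem_normalizer_iff.mp hx ⟨y, hyP⟩).mp hy
      exact h3
    · intro hy
      have hyP : x * y * x⁻¹ ∈ P := by
        have h4 := hRP.le hy
        exact h4
      have hyP2 : y ∈ P := by
        have := P.mul_mem (P.mul_mem (P.inv_mem x.2) hyP) x.2
        have e : (x : Γ)⁻¹ * (x * y * ((x⁻¹ : P) : Γ)) * x = y := by
          rw [Subgroup.coe_inv]
          group
        rwa [e] at this
      have h3 := (mem_normalizer_iff.mp hx ⟨y, hyP2⟩).mpr hy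
      exact h3
  have h5 : (x : Γ) ∈ P ⊓ normalizer (R : Set Γ) := ⟨x.2, hx'⟩
  rw [← h] at h5
  exact h5

omit [Finite Γ] hp in
theorem mem_inf_c {P : Subgroup Γ} {v x : Γ} :
    x ∈ P ⊓ centralizer ({v} : Set Γ) ↔ x ∈ P ∧ x * v = v * x := by
  rw [mem_inf, mem_centralizer_singleton_iff]

/-- The family of subgroups of `P` all of whose conjugates in `P` contain `T`. -/
def Fam (P T R : Subgroup Γ) : Prop :=
  R ≤ P ∧ ∀ g : Γ, (∀ r ∈ R, g * r * g⁻¹ ∈ P) → ∀ t ∈ T, g⁻¹ * t * g ∈ R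

omit [Finite Γ] hp in
theorem Fam.cj {P T R : Subgroup Γ} (h : Fam P T R) {a : Γ} (ha : cj a R ≤ P) :
    Fam P T (cj a R) := by
  refine ⟨ha, fun g hg t ht => ?_⟩
  have h1 : ∀ r ∈ R, (g * a) * r * (g * a)⁻¹ ∈ P := by
    intro r hr
    have h2 := hg _ (conj_mem_cj (g := a) hr)
    have e : g * (a * r * a⁻¹) * g⁻¹ = (g * a) * r * (g * a)⁻¹ := by group
    rwa [e] at h2
  have h2 := h.2 _ h1 t ht
  rw [mem_cj]
  have e : a⁻¹ * (g⁻¹ * t * g) * a = (g * a)⁻¹ * t * (g * a) := by group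
  rwa [e]

omit [Finite Γ] hp in
theorem Fam.mono {P T R R' : Subgroup Γ} (h : Fam P T R) (hle : R ≤ R') (hR' : R' ≤ P) :
    Fam P T R' :=
  ⟨hR', fun g hg t ht => hle (h.2 g (fun r hr => hg r (hle hr)) t ht)⟩

section Psi

variable {P T : Subgroup Γ} {τ : Γ}

/-- The downward induction (Alperin's argument). -/
theorem psi (hPp : IsPGroup p P) (hPi : ¬ p ∣ P.index)
    (hH : ∀ R : Subgroup Γ, T ≤ R → R ≤ P → IsSylowIn p (P ⊓ normalizer (R : Set Γ)) (normalizer (R : Set Γ)) →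
      normalizer (R : Set Γ) ≤ centralizer ({τ} : Set Γ)) :
    ∀ n : ℕ, ∀ R : Subgroup Γ, Nat.card P - Nat.card R = n → Fam P T R →
      ∀ g : Γ, (∀ r ∈ R, g * r * g⁻¹ ∈ P) → g * τ * g⁻¹ = τ := by
  classical
  intro n
  induction n using Nat.strong_induction_on with
  | _ n ih =>
    intro R hn hF g hg
    -- the extremal conjugate
    let W : Set Γ := {w | cj w R ≤ P}
    have hW1 : (1 : Γ) ∈ W := by
      show cj 1 R ≤ P
      rw [cj_one]
      exact hF.1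
    obtain ⟨w, hw, hwmax⟩ := Set.exists_max_image W
      (fun w => Nat.card (P ⊓ normalizer (cj w R : Set Γ) : Subgroup Γ)) (Set.toFinite _) ⟨1, hW1⟩
    have hw' : cj w R ≤ P := hw
    set Rs := cj w R with hRs
    have hRsF : Fam P T Rs := hF.cj hw'
    have hTRs : T ≤ Rs := by
      intro t ht
      have := hRsF.2 1 (by simpa using fun r hr => hw' hr) t ht
      simpa using this
    have hSyl : IsSylowIn p (P ⊓ normalizer (Rs : Set Γ)) (normalizer (Rs : Set Γ)) := by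
      have hQp : IsPGroup p (P ⊓ normalizer (Rs : Set Γ) : Subgroup Γ) := hPp.to_le inf_le_left
      obtain ⟨Q, hQ, hQle⟩ := exists_isSylowIn_ge (inf_le_right : P ⊓ normalizer (Rs : Set Γ) ≤ _) hQp
      obtain ⟨a, _, ha⟩ := exists_conj_le (isSylowIn_of_le (K := ⊤) hPp hPi le_top) le_top hQ.2.1
      have hRsQ : Rs ≤ Q := fun r hr => hQle ⟨hw' hr, le_normalizer hr⟩
      have hle1 : cj a Rs ≤ P := cj_le_iff.mpr fun r hr => ha r (hRsQ hr)
      have hmem : a * w ∈ W := by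
        show cj (a * w) R ≤ P
        rw [← cj_cj]
        exact hle1
      have hm := hwmax (a * w) hmem
      rw [← cj_cj] at hm
      have hle2 : cj a Q ≤ P ⊓ normalizer (cj a Rs : Set Γ) := by
        rw [cj_le_iff]
        intro q hq
        refine ⟨ha q hq, ?_⟩
        rw [cj_le_normalizer_of]
        exact conj_mem_cj (hQ.1 hq)
      have hcard : Nat.card Q ≤ Nat.card (P ⊓ normalizer (Rs : Set Γ) : Subgroup Γ) := by
        calc Nat.card Q = Nat.card (cj a Q) := (card_cj a Q).symm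
          _ ≤ _ := Nat.card_le_card_of_injective _ (Subgroup.inclusion_injective hle2)
          _ ≤ _ := hm
      have heq : P ⊓ normalizer (Rs : Set Γ) = Q := Subgroup.eq_of_le_of_card_ge hQle hcard
      rw [heq]
      exact hQ
    have hNτ := hH Rs hTRs hw' hSyl
    -- the moves
    have hmove : ∀ h : Γ, cj h R ≤ P → ∃ w₀ : Γ, cj w₀ (cj h R) = Rs ∧ w₀ * τ * w₀⁻¹ = τ := by
      intro h hhP
      set R₀ := cj h R with hR₀
      set N₀ := P ⊓ normalizer (R₀ : Set Γ) with hN₀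
      have hN₀p : IsPGroup p N₀ := hPp.to_le inf_le_left
      have e0 : cj (w * h⁻¹) R₀ = Rs := by
        rw [hR₀, cj_cj, hRs]
        congr 1
        group
      have hB : cj (w * h⁻¹) N₀ ≤ normalizer (Rs : Set Γ) := by
        rw [← e0, cj_le_normalizer_of]
        rw [cj_le_iff]
        intro x hx
        exact conj_mem_cj hx.2
      have hBp : IsPGroup p (cj (w * h⁻¹) N₀) := hN₀p.map _
      obtain ⟨c, hc, hcB⟩ := exists_conj_le hSyl hB hBp
      have hcRs : cj c Rs = Rs := cj_eq_of_mem_normalizer hc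
      refine ⟨c * (w * h⁻¹), ?_, ?_⟩
      · rw [← cj_cj, e0, hcRs]
      · by_cases hR₀P : R₀ = P
        · -- `R₀ = P`
          have h1 : Rs = P := by
            apply Subgroup.eq_of_le_of_card_ge hw'
            rw [hRs, card_cj, ← card_cj h R, ← hR₀, hR₀P]
          have h2 : c * (w * h⁻¹) ∈ normalizer (Rs : Set Γ) := by
            apply mem_normalizer_of_cj
            have h1' : R₀ = Rs := by rw [hR₀P, h1]
            have e5 : cj (w * h⁻¹) Rs = Rs := by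
              conv_lhs => rw [← h1']
              exact e0
            rw [← cj_cj, e5, hcRs]
          have h3 := hNτ h2
          rw [mem_centralizer_singleton_iff] at h3
          calc c * (w * h⁻¹) * τ * (c * (w * h⁻¹))⁻¹ = (c * (w * h⁻¹) * τ) * (c * (w * h⁻¹))⁻¹ := rfl
            _ = τ * (c * (w * h⁻¹)) * (c * (w * h⁻¹))⁻¹ := by rw [← h3]
            _ = τ := by group
        · have hlt : R₀ < P := lt_of_le_of_ne hhP hR₀P
          have hgrow : R₀ < N₀ := lt_inf_normalizer hPp hlt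
          have hcardlt : Nat.card R₀ < Nat.card N₀ := by
            by_contra hle
            exact hgrow.ne (Subgroup.eq_of_le_of_card_ge hgrow.le (not_lt.mp hle))
          have hN₀P : Nat.card N₀ ≤ Nat.card P :=
            Nat.card_le_card_of_injective _ (Subgroup.inclusion_injective inf_le_left)
          have hcR₀ : Nat.card R₀ = Nat.card R := card_cj h R
          have hlt2 : Nat.card P - Nat.card N₀ < n := by
            rw [← hn, ← hcR₀]
            omega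
          have hF0 : Fam P T N₀ := (hF.cj hhP).mono hgrow.le inf_le_left
          refine ih _ hlt2 N₀ rfl hF0 _ ?_
          intro x hx
          have h1 := hcB _ (conj_mem_cj (g := w * h⁻¹) hx)
          have e : c * (w * h⁻¹ * x * (w * h⁻¹)⁻¹) * c⁻¹
              = c * (w * h⁻¹) * x * (c * (w * h⁻¹))⁻¹ := by group
          rw [e] at h1
          exact h1.1
    obtain ⟨w₁, hw₁, hc₁⟩ := hmove 1 (by rw [cj_one]; exact hF.1)
    obtain ⟨w₂, hw₂, hc₂⟩ := hmove g (cj_le_iff.mpr hg)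
    rw [cj_one] at hw₁
    have hg₀ : w₂ * g * w₁⁻¹ ∈ normalizer (Rs : Set Γ) := by
      apply mem_normalizer_of_cj
      conv_lhs => rw [← hw₁]
      rw [cj_cj]
      have e : w₂ * g * w₁⁻¹ * w₁ = w₂ * g := by group
      rw [e, ← cj_cj, hw₂]
    have h3 := hNτ hg₀
    rw [mem_centralizer_singleton_iff] at h3
    have e1 : w₂ * g * w₁⁻¹ * τ * (w₂ * g * w₁⁻¹)⁻¹ = τ := by
      rw [h3]
      group
    have e3 : w₂⁻¹ * τ * w₂ = τ := by
      nth_rewrite 1 [← hc₂]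
      group
    have e4 : g * τ * g⁻¹ = w₂⁻¹ * (w₂ * g * w₁⁻¹ * (w₁ * τ * w₁⁻¹) * (w₂ * g * w₁⁻¹)⁻¹) * w₂ := by
      group
    rw [e4, hc₁, e1, e3]

end Psi

/-- The Alperin-style fusion lemma. -/
theorem isolated_of_local {P T : Subgroup Γ} {τ : Γ} (hPp : IsPGroup p P) (hPi : ¬ p ∣ P.index)
    (hTP : T ≤ P) (hTZ : ∀ t ∈ T, ∀ x ∈ P, t * x = x * t) (hτ : τ ∈ T)
    (hH : ∀ R : Subgroup Γ, T ≤ R → R ≤ P → IsSylowIn p (P ⊓ normalizer (R : Set Γ)) (normalizer (R : Set Γ)) →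
      normalizer (R : Set Γ) ≤ centralizer ({τ} : Set Γ)) :
    ∀ z : Γ, z * τ * z⁻¹ ∈ P → z * τ * z⁻¹ = τ := by
  classical
  by_contra hcon
  push_neg at hcon
  obtain ⟨z₀, hz₀P, hz₀⟩ := hcon
  let U : Set Γ := {u | u ∈ P ∧ u ≠ τ ∧ ∃ z, z * τ * z⁻¹ = u}
  have hU : U.Nonempty := ⟨_, hz₀P, hz₀, z₀, rfl⟩
  obtain ⟨u, ⟨huP, huτ, z, hz⟩, humax⟩ := Set.exists_max_image U
    (fun u => Nat.card (P ⊓ centralizer ({u} : Set Γ) : Subgroup Γ)) (Set.toFinite _) hU
  set D := P ⊓ centralizer ({u} : Set Γ) with hD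
  have hτP : τ ∈ P := hTP hτ
  have hτD : τ ∈ D := mem_inf_c.mpr ⟨hτP, hTZ τ hτ u huP⟩
  have huD : u ∈ D := mem_inf_c.mpr ⟨huP, rfl⟩
  have hFam : Fam P T D := by
    refine ⟨inf_le_left, fun g hg t ht => ?_⟩
    -- an element of `U` whose centralizer in `P` contains `gDg⁻¹`
    have key : ∃ v ∈ U, cj g D ≤ P ⊓ centralizer ({v} : Set Γ) := by
      by_cases hgτ : g * τ * g⁻¹ = τ
      · refine ⟨g * u * g⁻¹, ⟨hg u huD, ?_, g * z, ?_⟩, ?_⟩
        · intro h
          apply huτ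
          have e : u = g⁻¹ * (g * u * g⁻¹) * g := by group
          rw [e, h]
          nth_rewrite 1 [← hgτ]
          group
        · rw [← hz]
          group
        · rw [cj_le_iff]
          intro d hd
          refine mem_inf_c.mpr ⟨hg d hd, ?_⟩
          have h1 := (mem_inf_c.mp hd).2
          calc g * d * g⁻¹ * (g * u * g⁻¹) = g * (d * u) * g⁻¹ := by group
            _ = g * (u * d) * g⁻¹ := by rw [h1]
            _ = g * u * g⁻¹ * (g * d * g⁻¹) := by group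
      · refine ⟨g * τ * g⁻¹, ⟨hg τ hτD, hgτ, g, rfl⟩, ?_⟩
        rw [cj_le_iff]
        intro d hd
        refine mem_inf_c.mpr ⟨hg d hd, ?_⟩
        have h1 : d * τ = τ * d := (hTZ τ hτ d hd.1).symm
        calc g * d * g⁻¹ * (g * τ * g⁻¹) = g * (d * τ) * g⁻¹ := by group
          _ = g * (τ * d) * g⁻¹ := by rw [h1]
          _ = g * τ * g⁻¹ * (g * d * g⁻¹) := by group
    obtain ⟨v, hv, hle⟩ := key
    have hcard := humax v hv
    have heq : cj g D = P ⊓ centralizer ({v} : Set Γ) := by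
      apply Subgroup.eq_of_le_of_card_ge hle
      rw [card_cj]
      exact hcard
    have htm : t ∈ P ⊓ centralizer ({v} : Set Γ) :=
      mem_inf_c.mpr ⟨hTP ht, hTZ t ht v hv.1⟩
    rw [← heq, mem_cj] at htm
    exact htm
  -- final step
  have hCτ : IsSylowIn p P (centralizer ({τ} : Set Γ)) := by
    apply isSylowIn_of_le hPp hPi
    intro x hx
    rw [mem_centralizer_singleton_iff]
    exact (hTZ τ hτ x hx).symm
  have hB : cj z⁻¹ D ≤ centralizer ({τ} : Set Γ) := by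
    rw [cj_le_iff]
    intro d hd
    rw [mem_centralizer_singleton_iff]
    have h1 := (mem_inf_c.mp hd).2
    rw [← hz] at h1
    have e1 : z⁻¹ * d * z⁻¹⁻¹ * τ = z⁻¹ * (d * (z * τ * z⁻¹)) * z := by group
    have e2 : τ * (z⁻¹ * d * z⁻¹⁻¹) = z⁻¹ * ((z * τ * z⁻¹) * d) * z := by group
    rw [e1, e2, h1]
  have hBp : IsPGroup p (cj z⁻¹ D) := (hPp.to_le inf_le_left).map _
  obtain ⟨c, hc, hcB⟩ := exists_conj_le hCτ hB hBp
  rw [mem_centralizer_singleton_iff] at hc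
  have hg : ∀ d ∈ D, (c * z⁻¹) * d * (c * z⁻¹)⁻¹ ∈ P := by
    intro d hd
    have h1 := hcB _ (conj_mem_cj (g := z⁻¹) hd)
    have e : c * (z⁻¹ * d * z⁻¹⁻¹) * c⁻¹ = (c * z⁻¹) * d * (c * z⁻¹)⁻¹ := by group
    rwa [e] at h1
  have h2 := psi hPp hPi hH _ D rfl hFam (c * z⁻¹) hg
  -- `c z⁻¹` commutes with `τ`, and conjugates `u` to `τ`
  apply huτ
  have e1 : (c * z⁻¹) * u * (c * z⁻¹)⁻¹ = τ := by
    rw [← hz]
    have : c * z⁻¹ * (z * τ * z⁻¹) * (c * z⁻¹)⁻¹ = c * τ * c⁻¹ := by group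
    rw [this, hc]
    group
  have e2 : u = (c * z⁻¹)⁻¹ * τ * (c * z⁻¹) := by
    rw [← e1]
    group
  rw [e2]
  nth_rewrite 1 [← h2]
  group

omit hp in
theorem index_cj (g : Γ) (P : Subgroup Γ) : (cj g P).index = P.index := by
  have h1 := Subgroup.card_mul_index (cj g P)
  have h2 := Subgroup.card_mul_index P
  rw [card_cj] at h1
  exact Nat.eq_of_mul_eq_mul_left Nat.card_pos (h1.trans h2.symm)

open scoped commutatorElement in
/-- Conjugates of an involution lying in the commutator subgroup of `T`. -/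
theorem isolated_of_commutator {G S T P : Subgroup Γ} [hG : G.Normal] {τ : Γ}
    (hSG : S ≤ G) (hST : ∀ β ∈ T, ∀ s ∈ S, β * s = s * β)
    (hfac : ∀ z : Γ, ∃ β ∈ T, ∃ g ∈ G, z = β * g)
    (hPp : IsPGroup p P) (hPi : ¬ p ∣ P.index) (hSP : S ≤ P) (hTP : T ≤ P)
    (hGP : G ⊓ P ≤ S) (hτT : τ ∈ T) (hPτ : ∀ x ∈ P, x * τ = τ * x) (hτ2 : τ * τ = 1)
    (hτc : τ ∈ ⁅T, T⁆) : ∀ z : Γ, z * τ * z⁻¹ ∈ P → z * τ * z⁻¹ = τ := by
  classical
  by_contra hcon
  push_neg at hcon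
  obtain ⟨z₀, hz₀P, hz₀⟩ := hcon
  have hτP := hTP hτT
  -- the set of nontrivial commutators in `S`
  let E : Set Γ := {s | s ∈ S ∧ s ≠ 1 ∧ ∃ x ∈ G, x * τ * x⁻¹ = s * τ}
  have hE : E.Nonempty := by
    obtain ⟨β, hβ, g, hg, rfl⟩ := hfac z₀
    have hβτ := hPτ β (hTP hβ)
    have e1 : β * g * τ * (β * g)⁻¹ = (β * g * β⁻¹) * τ * (β * g * β⁻¹)⁻¹ := by
      have h2 : β⁻¹ * τ * β = τ := by
        rw [mul_assoc, ← hβτ]
        group
      calc β * g * τ * (β * g)⁻¹ = β * g * (β⁻¹ * τ * β) * (β * g)⁻¹ := by rw [h2]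
        _ = _ := by group
    rw [e1] at hz₀P hz₀
    set g' := β * g * β⁻¹ with hg'
    have hg'G : g' ∈ G := hG.conj_mem g hg β
    refine ⟨g' * τ * g'⁻¹ * τ⁻¹, ⟨?_, ?_, g', hg'G, by group⟩⟩
    · apply hGP
      refine ⟨?_, P.mul_mem hz₀P (P.inv_mem hτP)⟩
      have e2 : g' * τ * g'⁻¹ * τ⁻¹ = g' * (τ * g'⁻¹ * τ⁻¹) := by group
      rw [e2]
      exact G.mul_mem hg'G (hG.conj_mem _ (G.inv_mem hg'G) τ)
    · intro h
      apply hz₀
      rwa [mul_inv_eq_one] at h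
  obtain ⟨s, ⟨hsS, hs1, x, hxG, hx⟩, hsmax⟩ := Set.exists_max_image E
    (fun s => Nat.card (S ⊓ centralizer ({s} : Set Γ) : Subgroup Γ)) (Set.toFinite _) hE
  have hτs : s * τ = τ * s := hPτ s (hSP hsS)
  have hs2 : s * s = 1 := by
    have h1 : (s * τ) * (s * τ) = 1 := by
      rw [← hx]
      have : x * τ * x⁻¹ * (x * τ * x⁻¹) = x * (τ * τ) * x⁻¹ := by group
      rw [this, hτ2]
      group
    have h2 : (s * τ) * (s * τ) = s * s * (τ * τ) := by
      calc (s * τ) * (s * τ) = s * (τ * s) * τ := by group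
        _ = s * (s * τ) * τ := by rw [hτs]
        _ = _ := by group
    rw [h2, hτ2, mul_one] at h1
    exact h1
  set A := S ⊓ centralizer ({s} : Set Γ) with hA
  have hsA : s ∈ A := mem_inf_c.mpr ⟨hsS, rfl⟩
  -- Sylow in the centralizer of `s τ`
  set C := centralizer ({s * τ} : Set Γ) with hC
  have hxC : x * τ * x⁻¹ = s * τ := hx
  have hPC : IsSylowIn p (cj x P) C := by
    refine isSylowIn_of_le (P := cj x P) (hPp.map _) ?_ ?_
    · rw [index_cj]
      exact hPi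
    · rw [cj_le_iff]
      intro y hy
      rw [mem_centralizer_singleton_iff, ← hxC]
      have h1 := hPτ y hy
      calc x * y * x⁻¹ * (x * τ * x⁻¹) = x * (y * τ) * x⁻¹ := by group
        _ = x * (τ * y) * x⁻¹ := by rw [h1]
        _ = _ := by group
  have hBP : A ⊔ T ≤ P := sup_le (inf_le_left.trans hSP) hTP
  have hBC : A ⊔ T ≤ C := by
    apply sup_le
    · intro a ha
      rw [mem_centralizer_singleton_iff]
      have h1 := (mem_inf_c.mp ha).2
      have h2 := hPτ a (hSP (mem_inf_c.mp ha).1)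
      calc a * (s * τ) = (a * s) * τ := by group
        _ = (s * a) * τ := by rw [h1]
        _ = s * (a * τ) := by group
        _ = s * (τ * a) := by rw [h2]
        _ = _ := by group
    · intro β hβ
      rw [mem_centralizer_singleton_iff]
      have h1 := hST β hβ s hsS
      have h2 := hPτ β (hTP hβ)
      calc β * (s * τ) = (β * s) * τ := by group
        _ = (s * β) * τ := by rw [h1]
        _ = s * (β * τ) := by group
        _ = s * (τ * β) := by rw [h2]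
        _ = _ := by group
  obtain ⟨c, hc, hcB⟩ := exists_conj_le hPC hBC (hPp.to_le hBP)
  rw [mem_centralizer_singleton_iff] at hc
  obtain ⟨β', hβ', y, hyG, hy⟩ := hfac (x⁻¹ * c)
  have hβ'τ := hPτ β' (hTP hβ')
  have hye : y = β'⁻¹ * (x⁻¹ * c) := by rw [hy]; group
  -- the element `y`
  have hyB : ∀ b ∈ A ⊔ T, y * b * y⁻¹ ∈ P := by
    intro b hb
    have h1 := mem_cj.mp (hcB b hb)
    have e : y * b * y⁻¹ = β'⁻¹ * (x⁻¹ * (c * b * c⁻¹) * x⁻¹⁻¹) * β' := by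
      rw [hye]
      group
    rw [e]
    simp only [inv_inv]
    exact P.mul_mem (P.mul_mem (P.inv_mem (hTP hβ')) h1) (hTP hβ')
  have hyτ : y * (s * τ) * y⁻¹ = τ := by
    have h1 : c * (s * τ) * c⁻¹ = s * τ := by rw [hc]; group
    have h2 : x⁻¹ * (s * τ) * x = τ := by rw [← hxC]; group
    have h3 : β'⁻¹ * τ * β' = τ := by
      rw [mul_assoc, ← hβ'τ]
      group
    calc y * (s * τ) * y⁻¹ = β'⁻¹ * (x⁻¹ * (c * (s * τ) * c⁻¹) * x) * β' := by
          rw [hye]; group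
      _ = τ := by rw [h1, h2, h3]
  have hGmem : ∀ a ∈ S, a ∈ A → y * a * y⁻¹ ∈ S := by
    intro a ha haA
    apply hGP
    refine ⟨?_, hyB a (mem_sup_left haA)⟩
    exact G.mul_mem (G.mul_mem hyG (hSG ha)) (G.inv_mem hyG)
  set s₁ := y * s * y⁻¹ with hs₁
  have hs₁S : s₁ ∈ S := hGmem s hsS hsA
  -- the map `σ`
  let σ : Γ → Γ := fun β => y * β * y⁻¹ * β⁻¹
  have hσS : ∀ β ∈ T, σ β ∈ S := by
    intro β hβ
    apply hGP
    constructor
    · have e : y * β * y⁻¹ * β⁻¹ = y * (β * y⁻¹ * β⁻¹) := by group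
      show y * β * y⁻¹ * β⁻¹ ∈ G
      rw [e]
      exact G.mul_mem hyG (hG.conj_mem _ (G.inv_mem hyG) β)
    · exact P.mul_mem (hyB β (mem_sup_right hβ)) (P.inv_mem (hTP hβ))
  have hσyτ : y * τ * y⁻¹ = σ τ * τ := by
    show _ = y * τ * y⁻¹ * τ⁻¹ * τ
    group
  have hs₁σ : s₁ * σ τ = 1 := by
    have h1 : s₁ * (σ τ * τ) = τ := by
      rw [← hσyτ]
      calc s₁ * (y * τ * y⁻¹) = y * (s * τ) * y⁻¹ := by
            rw [hs₁]; group
        _ = τ := hyτ
    have h2 : (s₁ * σ τ) * τ = τ := by rw [mul_assoc]; exact h1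
    exact mul_eq_right.mp h2
  have hs₁2 : s₁ * s₁ = 1 := by
    have : y * s * y⁻¹ * (y * s * y⁻¹) = y * (s * s) * y⁻¹ := by group
    rw [hs₁, this, hs2]
    group
  have hσs₁ : σ τ = s₁ := by
    have h1 : σ τ = s₁⁻¹ := (eq_inv_of_mul_eq_one_right hs₁σ)
    rw [h1]
    exact inv_eq_of_mul_eq_one_left hs₁2
  have hs₁1 : s₁ ≠ 1 := by
    intro h
    apply hs1
    have : s = y⁻¹ * s₁ * y := by rw [hs₁]; group
    rw [this, h]
    group
  have hs₁E : s₁ ∈ E := ⟨hs₁S, hs₁1, y, hyG, by rw [hσyτ, hσs₁]⟩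
  have hcard := hsmax s₁ hs₁E
  have hA₁ : cj y A = S ⊓ centralizer ({s₁} : Set Γ) := by
    apply Subgroup.eq_of_le_of_card_ge
    · rw [cj_le_iff]
      intro a ha
      refine mem_inf_c.mpr ⟨hGmem a (mem_inf_c.mp ha).1 ha, ?_⟩
      have h1 := (mem_inf_c.mp ha).2
      rw [hs₁]
      calc y * a * y⁻¹ * (y * s * y⁻¹) = y * (a * s) * y⁻¹ := by group
        _ = y * (s * a) * y⁻¹ := by rw [h1]
        _ = _ := by group
    · rw [card_cj]
      exact hcard
  -- `σ(T)` centralizes `A₁`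
  have hσcomm : ∀ β ∈ T, ∀ a ∈ A, σ β * (y * a * y⁻¹) = (y * a * y⁻¹) * σ β := by
    intro β hβ a ha
    have haS := (mem_inf_c.mp ha).1
    have h1 := hST β hβ a haS
    have h2 : (y * β * y⁻¹) * (y * a * y⁻¹) = (y * a * y⁻¹) * (y * β * y⁻¹) := by
      calc (y * β * y⁻¹) * (y * a * y⁻¹) = y * (β * a) * y⁻¹ := by group
        _ = y * (a * β) * y⁻¹ := by rw [h1]
        _ = _ := by group
    have h3 := hST β hβ _ (hGmem a haS ha)
    have h3' : β⁻¹ * (y * a * y⁻¹) = (y * a * y⁻¹) * β⁻¹ := by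
      calc β⁻¹ * (y * a * y⁻¹) = β⁻¹ * ((y * a * y⁻¹) * β) * β⁻¹ := by group
        _ = β⁻¹ * (β * (y * a * y⁻¹)) * β⁻¹ := by rw [h3]
        _ = _ := by group
    show (y * β * y⁻¹ * β⁻¹) * (y * a * y⁻¹) = (y * a * y⁻¹) * (y * β * y⁻¹ * β⁻¹)
    calc (y * β * y⁻¹ * β⁻¹) * (y * a * y⁻¹) = (y * β * y⁻¹) * (β⁻¹ * (y * a * y⁻¹)) := by group
      _ = (y * β * y⁻¹) * ((y * a * y⁻¹) * β⁻¹) := by rw [h3']
      _ = ((y * β * y⁻¹) * (y * a * y⁻¹)) * β⁻¹ := by group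
      _ = ((y * a * y⁻¹) * (y * β * y⁻¹)) * β⁻¹ := by rw [h2]
      _ = _ := by group
  have hσA : ∀ β ∈ T, σ β ∈ cj y A := by
    intro β hβ
    rw [hA₁]
    refine mem_inf_c.mpr ⟨hσS β hβ, ?_⟩
    exact hσcomm β hβ s hsA
  have hσσ : ∀ β₁ ∈ T, ∀ β₂ ∈ T, σ β₁ * σ β₂ = σ β₂ * σ β₁ := by
    intro β₁ h₁ β₂ h₂
    have h := mem_cj.mp (hσA β₂ h₂)
    have h3 := hσcomm β₁ h₁ _ h
    have e : y * (y⁻¹ * σ β₂ * y) * y⁻¹ = σ β₂ := by group
    rwa [e] at h3
  have hσmul : ∀ β₁ ∈ T, ∀ β₂ ∈ T, σ (β₁ * β₂) = σ β₁ * σ β₂ := by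
    intro β₁ h₁ β₂ h₂
    have h3 := hST β₁ h₁ _ (hσS β₂ h₂)
    have h3' : β₁⁻¹ * σ β₂ = σ β₂ * β₁⁻¹ := by
      calc β₁⁻¹ * σ β₂ = β₁⁻¹ * (σ β₂ * β₁) * β₁⁻¹ := by group
        _ = β₁⁻¹ * (β₁ * σ β₂) * β₁⁻¹ := by rw [h3]
        _ = _ := by group
    show y * (β₁ * β₂) * y⁻¹ * (β₁ * β₂)⁻¹ = y * β₁ * y⁻¹ * β₁⁻¹ * σ β₂
    calc y * (β₁ * β₂) * y⁻¹ * (β₁ * β₂)⁻¹ = y * β₁ * y⁻¹ * (y * β₂ * y⁻¹ * β₂⁻¹) * β₁⁻¹ := by group
      _ = y * β₁ * y⁻¹ * (σ β₂ * β₁⁻¹) := by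
        show _ = y * β₁ * y⁻¹ * ((y * β₂ * y⁻¹ * β₂⁻¹) * β₁⁻¹)
        group
      _ = y * β₁ * y⁻¹ * (β₁⁻¹ * σ β₂) := by rw [h3']
      _ = _ := by group
  -- the kernel contains the commutator subgroup
  let σ' : T →* Γ :=
    { toFun := fun β => σ β
      map_one' := by
        show y * ((1 : T) : Γ) * y⁻¹ * ((1 : T) : Γ)⁻¹ = 1
        simp
      map_mul' := fun a b => hσmul a a.2 b b.2 }
  have hker : ⁅T, T⁆ ≤ σ'.ker.map T.subtype := by
    rw [Subgroup.commutator_le]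
    intro a ha b hb
    refine ⟨⁅(⟨a, ha⟩ : T), (⟨b, hb⟩ : T)⁆, ?_, rfl⟩
    show σ' ⁅(⟨a, ha⟩ : T), (⟨b, hb⟩ : T)⁆ = 1
    rw [map_commutatorElement, commutatorElement_eq_one_iff_mul_comm]
    exact hσσ a ha b hb
  obtain ⟨t, ht, hte⟩ := hker hτc
  have hσ1 : σ τ = 1 := by
    have h1 : σ' t = 1 := ht
    rw [← hte]
    exact h1
  apply hs₁1
  rw [hσ1, mul_one] at hs₁σ
  exact hs₁σ

end Cfsg.Agent.Lib.LBal.Fusion
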