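/-
The semidirect product `G ⋊ T` for a group `T` of automorphisms fixing `S` pointwise, and the reduction
of the triviality of an involution of `T` to a local statement in `G`.
-/
import Mathlib
import Cfsg.Agent.Lib.LBal.Fusion
import Cfsg.Agent.Lib.TwoFusion.AutFix
import Cfsg.Agent.Lib.Core.Basic

set_option autoImplicit false
set_option linter.style.haveILetI false

namespace Cfsg.Agent.Lib.LBal.Semi

open Subgroup Cfsg Cfsg.Agent.Lib.Core.Basic Cfsg.Agent.Lib.Coprime.Action Cfsg.Agent.Lib.LBal.Fusion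
open SemidirectProduct

universe u

variable {G : Type u} [Group G]

/-- Automorphisms fixing `S` pointwise. -/
def FixS (S : Subgroup G) : Subgroup (MulAut G) where
  carrier := {φ | ∀ s ∈ S, φ s = s}
  mul_mem' := by
    intro a b ha hb s hs
    show a (b s) = s
    rw [hb s hs, ha s hs]
  one_mem' := fun s _ => rfl
  inv_mem' := by
    intro a ha s hs
    show a.symm s = s
    rw [MulEquiv.symm_apply_eq]
    exact (ha s hs).symm

theorem mem_Fix {S : Subgroup G} {φ : MulAut G} : φ ∈ FixS S ↔ ∀ s ∈ S, φ s = s := Iff.rfl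

/-- The semidirect product. -/
abbrev Gm (T : Subgroup (MulAut G)) : Type u := G ⋊[T.subtype] T

variable {S : Subgroup G} {T : Subgroup (MulAut G)}

theorem inr_mul_inl (β : T) (g : G) :
    (inr β : Gm T) * inl g = inl ((β : MulAut G) g) * inr β := by
  have := SemidirectProduct.inl_aut (φ := T.subtype) β g
  have h2 : (inl (T.subtype β g) : Gm T) * inr β = inr β * inl g := by
    rw [this, mul_assoc, ← map_mul]
    simp
  exact h2.symm

theorem conj_inl_inr (g : G) (β : T) :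
    (inl g : Gm T) * inr β * (inl g)⁻¹ = inl (g * ((β : MulAut G) g)⁻¹) * inr β := by
  have h1 := inr_mul_inl β g⁻¹
  rw [map_inv] at h1
  rw [mul_assoc, h1, map_mul, map_inv, map_inv, mul_assoc]

/-- `P = S ⋊ T`. -/
def PP (hT : T ≤ FixS S) : Subgroup (Gm T) where
  carrier := {z | z.left ∈ S}
  mul_mem' := by
    intro a b ha hb
    show a.left * (T.subtype a.right) b.left ∈ S
    have : (T.subtype a.right) b.left = b.left := hT a.right.2 _ hb
    rw [this]
    exact S.mul_mem ha hb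
  one_mem' := S.one_mem
  inv_mem' := by
    intro a ha
    show (T.subtype a.right⁻¹) a.left⁻¹ ∈ S
    have : (T.subtype a.right⁻¹) a.left⁻¹ = a.left⁻¹ :=
      hT (a.right⁻¹).2 _ (S.inv_mem ha)
    rw [this]
    exact S.inv_mem ha

theorem mem_PP {hT : T ≤ FixS S} {z : Gm T} : z ∈ PP hT ↔ z.left ∈ S := Iff.rfl

theorem card_PP (hT : T ≤ FixS S) : Nat.card (PP hT) = Nat.card S * Nat.card T := by
  rw [← Nat.card_prod]
  exact Nat.card_congr
    { toFun := fun z => (⟨z.1.left, z.2⟩, z.1.right)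
      invFun := fun x => ⟨⟨x.1.1, x.2⟩, x.1.2⟩
      left_inv := fun z => by
        apply Subtype.ext
        rfl
      right_inv := fun x => rfl }

variable [Finite G]

instance : Finite (Gm T) := Finite.of_equiv (G × T) SemidirectProduct.equivProd.symm

theorem isPGroup_PP {hT : T ≤ FixS S} {p : ℕ} [Fact p.Prime] (hS : IsPGroup p S) (hTp : IsPGroup p T) :
    IsPGroup p (PP hT) := by
  obtain ⟨a, ha⟩ := IsPGroup.iff_card.mp hS
  obtain ⟨b, hb⟩ := IsPGroup.iff_card.mp hTp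
  rw [IsPGroup.iff_card]
  exact ⟨a + b, by rw [card_PP, ha, hb, pow_add]⟩

theorem index_PP (hT : T ≤ FixS S) : (PP hT).index = S.index := by
  have h1 := Subgroup.card_mul_index (PP hT)
  rw [card_PP, SemidirectProduct.card] at h1
  have h2 := Subgroup.card_mul_index S
  rw [← h2] at h1
  have hS' : 0 < Nat.card S := Nat.card_pos
  have hT' : 0 < Nat.card T := Nat.card_pos
  have h3 : (Nat.card S * Nat.card T) * (PP hT).index = (Nat.card S * Nat.card T) * S.index := by
    rw [h1]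
    ring
  exact Nat.eq_of_mul_eq_mul_left (Nat.mul_pos hS' hT') h3

section sylow

variable {Γ : Type*} [Group Γ] [Finite Γ] {p : ℕ} [Fact p.Prime]

theorem isSylowIn_inf_normal {A B D : Subgroup Γ} (h : IsSylowIn p A B) (hDB : D ≤ B)
    (hD : ∀ b ∈ B, ∀ d ∈ D, b * d * b⁻¹ ∈ D) : IsSylowIn p (A ⊓ D) D := by
  have hp : IsPGroup p (A ⊓ D : Subgroup Γ) := h.2.1.to_le inf_le_left
  obtain ⟨Q, hQ, hle⟩ := exists_isSylowIn_ge (inf_le_right : A ⊓ D ≤ D) hp
  obtain ⟨c, hc, hcQ⟩ := exists_conj_le h (hQ.1.trans hDB) hQ.2.1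
  have hle2 : cj c Q ≤ A ⊓ D := by
    rw [cj_le_iff]
    intro q hq
    exact ⟨hcQ q hq, hD c hc q (hQ.1 hq)⟩
  have hcard : Nat.card Q ≤ Nat.card (A ⊓ D : Subgroup Γ) := by
    rw [← card_cj c Q]
    exact Nat.card_le_card_of_injective _ (Subgroup.inclusion_injective hle2)
  have heq : A ⊓ D = Q := Subgroup.eq_of_le_of_card_ge hle hcard
  rw [heq]
  exact hQ

theorem isSylowIn_of_map {Γ' : Type*} [Group Γ'] [Finite Γ'] (f : Γ' →* Γ) (hf : Function.Injective f)
    {A B : Subgroup Γ'} (hAB : A ≤ B) (hA : IsPGroup p A) (h : IsSylowIn p (A.map f) (B.map f)) :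
    IsSylowIn p A B := by
  refine ⟨hAB, hA, ?_⟩
  have h1 := card_eq_card_mul_relIndex h.1
  have h2 := card_eq_card_mul_relIndex hAB
  rw [Subgroup.card_map_of_injective hf, Subgroup.card_map_of_injective hf] at h1
  have h3 : A.relIndex B = (A.map f).relIndex (B.map f) :=
    Nat.eq_of_mul_eq_mul_left Nat.card_pos (h2.symm.trans h1)
  rw [h3]
  exact h.2.2

end sylow

/-! ### Working in `G ⋊ T` -/

section inG

variable (hT : T ≤ FixS S)

include hT

omit [Finite G] in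
theorem inr_comm_inl_of_mem (b : T) {s : G} (hs : s ∈ S) :
    (inr b : Gm T) * inl s = inl s * inr b := by
  rw [inr_mul_inl, show (b : MulAut G) s = s from hT b.2 s hs]

omit [Finite G] in
theorem eq_inl_mul_inr (z : Gm T) : z = inl z.left * inr z.right :=
  (SemidirectProduct.inl_left_mul_inr_right z).symm

omit [Finite G] in
theorem exists_inr_mul_inl (z : Gm T) : ∃ r : T, ∃ g : G, z = inr r * inl g := by
  refine ⟨z.right, (z.right : MulAut G)⁻¹ z.left, ?_⟩
  rw [inr_mul_inl]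
  have : (z.right : MulAut G) ((z.right : MulAut G)⁻¹ z.left) = z.left := by
    simp
  rw [this]
  exact eq_inl_mul_inr hT z

end inG

/-- Reduction to the Sylow subgroup: the statement for `aut_eq_one`. -/
theorem eq_one_of_isolated (hO : pPrimeCore 2 G = ⊥) (hSp : IsPGroup 2 S) (hSi : ¬ 2 ∣ S.index)
    (hT : T ≤ FixS S) {τ : MulAut G} (hτT : τ ∈ T) (hτ2 : τ * τ = 1)
    (hiso : ∀ z : Gm T, z * inr (⟨τ, hτT⟩ : T) * z⁻¹ ∈ PP hT →
      z * inr (⟨τ, hτT⟩ : T) * z⁻¹ = inr (⟨τ, hτT⟩ : T)) : τ = 1 := by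
  haveI : Fact (Nat.Prime 2) := ⟨Nat.prime_two⟩
  let R : Sylow 2 G := hSp.toSylow hSi
  have hRS : (R : Subgroup G) = S := rfl
  apply Cfsg.Agent.Lib.TwoFusion.AutFix.aut_eq_one hO τ (by rw [pow_two]; exact hτ2) R
  · intro r hr
    rw [hRS] at hr ⊢
    rw [hT hτT r hr]
    exact hr
  · intro h hh
    rw [hRS] at hh
    have h1 := conj_inl_inr h (⟨τ, hτT⟩ : T)
    have h2 : (inl h : Gm T) * inr (⟨τ, hτT⟩ : T) * (inl h)⁻¹ ∈ PP hT := by
      rw [h1, mem_PP]
      simpa using hh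
    have h3 := hiso _ h2
    rw [h1] at h3
    have h4 := mul_eq_right.mp h3
    exact SemidirectProduct.inl_injective (by simpa using h4)

open scoped commutatorElement in
/-- **First step of Glauberman's theorem**: an involution in `T' ∩ Z(T)` is trivial. -/
theorem eq_one_of_mem_commutator (hO : pPrimeCore 2 G = ⊥) (hSp : IsPGroup 2 S) (hSi : ¬ 2 ∣ S.index)
    (hT : T ≤ FixS S) (hTp : IsPGroup 2 T) {τ : MulAut G} (hτT : τ ∈ T)
    (hτZ : ∀ β ∈ T, τ * β = β * τ) (hτ2 : τ * τ = 1) (hτc : τ ∈ ⁅T, T⁆) : τ = 1 := by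
  haveI : Fact (Nat.Prime 2) := ⟨Nat.prime_two⟩
  apply eq_one_of_isolated hO hSp hSi hT hτT hτ2
  set τ' : T := ⟨τ, hτT⟩ with hτ'
  haveI : ((inl : G →* Gm T).range).Normal := by
    rw [SemidirectProduct.range_inl_eq_ker_rightHom]
    exact MonoidHom.normal_ker _
  have hcτ : ∀ r : T, (inr r : Gm T) * inr τ' = inr τ' * inr r := by
    intro r
    rw [← map_mul, ← map_mul]
    congr 1
    exact Subtype.ext (hτZ r r.2).symm
  refine isolated_of_commutator (p := 2) (G := (inl : G →* Gm T).range) (S := S.map inl)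
    (T := (inr : T →* Gm T).range) (P := PP hT) ?_ ?_ ?_
    (isPGroup_PP hSp hTp) (by rw [index_PP]; exact hSi) ?_ ?_ ?_ ⟨τ', rfl⟩ ?_ ?_ ?_
  · exact map_le_range _ _
  · rintro _ ⟨b, rfl⟩ _ ⟨s, hs, rfl⟩
    exact inr_comm_inl_of_mem hT b hs
  · intro z
    obtain ⟨r, g, e⟩ := exists_inr_mul_inl hT z
    exact ⟨_, ⟨r, rfl⟩, _, ⟨g, rfl⟩, e⟩
  · rintro _ ⟨s, hs, rfl⟩
    exact hs
  · rintro _ ⟨b, rfl⟩
    exact S.one_mem
  · rintro _ ⟨⟨g, rfl⟩, hg⟩
    exact ⟨g, hg, rfl⟩
  · intro x hx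
    rw [eq_inl_mul_inr hT x, mul_assoc, hcτ, ← mul_assoc, ← mul_assoc,
      (inr_comm_inl_of_mem hT τ' hx).symm]
  · rw [← map_mul]
    have : τ' * τ' = 1 := Subtype.ext hτ2
    rw [this, map_one]
  · have h1 : τ ∈ (commutator T).map T.subtype := by
      rw [Subgroup.map_subtype_commutator]
      exact hτc
    obtain ⟨t, ht, hte⟩ := h1
    have h2 : t = τ' := Subtype.ext hte
    rw [← h2, MonoidHom.range_eq_map, ← Subgroup.map_commutator]
    exact ⟨t, ht, rfl⟩

/-- `N_G(R × T)` inside `G`. -/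
def XX (R : Subgroup G) (T : Subgroup (MulAut G)) : Subgroup G where
  carrier := {x | x ∈ normalizer (R : Set G) ∧ ∀ β ∈ T, x * (β x)⁻¹ ∈ R}
  one_mem' := ⟨one_mem _, fun β _ => by simp⟩
  mul_mem' := by
    rintro x y ⟨hx, hx2⟩ ⟨hy, hy2⟩
    refine ⟨mul_mem hx hy, fun β hβ => ?_⟩
    have e : x * y * (β (x * y))⁻¹ = x * (y * (β y)⁻¹) * x⁻¹ * (x * (β x)⁻¹) := by
      rw [map_mul]
      group
    rw [e]
    exact R.mul_mem ((mem_normalizer_iff.mp hx _).mp (hy2 β hβ)) (hx2 β hβ)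
  inv_mem' := by
    rintro x ⟨hx, hx2⟩
    refine ⟨inv_mem hx, fun β hβ => ?_⟩
    have e : x⁻¹ * (β x⁻¹)⁻¹ = x⁻¹ * (x * (β x)⁻¹)⁻¹ * x⁻¹⁻¹ := by
      rw [map_inv]
      group
    rw [e]
    exact (mem_normalizer_iff.mp (inv_mem hx) _).mp (R.inv_mem (hx2 β hβ))

theorem mem_XX {R : Subgroup G} {x : G} :
    x ∈ XX R T ↔ x ∈ normalizer (R : Set G) ∧ ∀ β ∈ T, x * (β x)⁻¹ ∈ R := Iff.rfl

/-- The reduction of Glauberman's theorem for an abelian group `T` to a statement in `G`. -/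
theorem eq_one_of_local (hO : pPrimeCore 2 G = ⊥) (hSp : IsPGroup 2 S) (hSi : ¬ 2 ∣ S.index)
    (hT : T ≤ FixS S) (hTp : IsPGroup 2 T) (hTc : ∀ a ∈ T, ∀ b ∈ T, a * b = b * a)
    {τ : MulAut G} (hτT : τ ∈ T) (hτ2 : τ * τ = 1)
    (hloc : ∀ R : Subgroup G, R ≤ S → IsSylowIn 2 (S ⊓ XX R T) (XX R T) → ∀ x ∈ XX R T, τ x = x) :
    τ = 1 := by
  haveI : Fact (Nat.Prime 2) := ⟨Nat.prime_two⟩
  apply eq_one_of_isolated hO hSp hSi hT hτT hτ2
  set τ' : T := ⟨τ, hτT⟩ with hτ'
  have hcomm : ∀ r t : T, (inr r : Gm T) * inr t = inr t * inr r := by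
    intro r t
    rw [← map_mul, ← map_mul]
    congr 1
    exact Subtype.ext (hTc r r.2 t t.2)
  have hTP : (inr : T →* Gm T).range ≤ PP hT := by
    rintro _ ⟨b, rfl⟩
    exact S.one_mem
  have hTZ : ∀ t ∈ (inr : T →* Gm T).range, ∀ x ∈ PP hT, t * x = x * t := by
    rintro _ ⟨b, rfl⟩ x hx
    rw [eq_inl_mul_inr hT x, ← mul_assoc, inr_comm_inl_of_mem hT b hx, mul_assoc, hcomm, mul_assoc]
  refine isolated_of_local (p := 2) (T := (inr : T →* Gm T).range) (P := PP hT)
    (isPGroup_PP hSp hTp) (by rw [index_PP]; exact hSi) hTP hTZ ⟨τ', rfl⟩ ?_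
  intro Rh hTR hRP hSyl
  set R : Subgroup G := Rh.comap inl with hR
  have hRS : R ≤ S := fun r hr => hRP hr
  have hinr : ∀ r : T, (inr r : Gm T) ∈ Rh := fun r => hTR ⟨r, rfl⟩
  have hRmem : ∀ z : Gm T, z ∈ Rh ↔ z.left ∈ R := by
    intro z
    constructor
    · intro hz
      have h1 := Rh.mul_mem hz (Rh.inv_mem (hinr z.right))
      have e : z * (inr z.right)⁻¹ = inl z.left := by
        nth_rewrite 1 [eq_inl_mul_inr hT z]
        group
      rw [e] at h1
      exact h1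
    · intro hz
      rw [eq_inl_mul_inr hT z]
      exact Rh.mul_mem hz (hinr _)
  have hX : ∀ x : G, (inl x : Gm T) ∈ normalizer (Rh : Set (Gm T)) ↔ x ∈ XX R T := by
    intro x
    constructor
    · intro hx
      have hx' := mem_normalizer_iff.mp hx
      refine ⟨mem_normalizer_fintype fun r hr => ?_, fun β hβ => ?_⟩
      · have h1 : (inl r : Gm T) ∈ Rh := hr
        have h2 := (hx' _).mp h1
        have e : (inl x : Gm T) * inl r * (inl x)⁻¹ = inl (x * r * x⁻¹) := by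
          simp [map_mul, map_inv]
        rw [e] at h2
        exact h2
      · have h2 := (hx' _).mp (hinr ⟨β, hβ⟩)
        rw [conj_inl_inr] at h2
        have h3 := Rh.mul_mem h2 (Rh.inv_mem (hinr ⟨β, hβ⟩))
        rw [mul_inv_cancel_right] at h3
        exact h3
    · rintro ⟨hx1, hx2⟩
      apply mem_normalizer_fintype
      intro z hz
      have hzl := (hRmem z).mp hz
      have e : (inl x : Gm T) * z * (inl x)⁻¹
          = inl (x * z.left * x⁻¹) * (inl (x * ((z.right : MulAut G) x)⁻¹) * inr z.right) := by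
        rw [← conj_inl_inr x z.right]
        nth_rewrite 1 [eq_inl_mul_inr hT z]
        simp only [map_mul, map_inv]
        group
      rw [e]
      refine Rh.mul_mem ?_ (Rh.mul_mem ?_ (hinr _))
      · exact (mem_normalizer_iff.mp hx1 _).mp hzl
      · exact hx2 _ z.right.2
  have hSyl' : IsSylowIn 2 (S ⊓ XX R T) (XX R T) := by
    refine isSylowIn_of_map (inl : G →* Gm T) SemidirectProduct.inl_injective inf_le_right
      (hSp.to_le inf_le_left) ?_
    have hD : (XX R T).map (inl : G →* Gm T) ≤ normalizer (Rh : Set (Gm T)) := by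
      rintro _ ⟨x, hx, rfl⟩
      exact (hX x).mpr hx
    have h1 := isSylowIn_inf_normal hSyl hD (by
      rintro b hb _ ⟨x, hx, rfl⟩
      -- the intersection of the normalizer with the base is normal in the normalizer
      have h2 : b * inl x * b⁻¹ ∈ normalizer (Rh : Set (Gm T)) :=
        mul_mem (mul_mem hb ((hX x).mpr hx)) (inv_mem hb)
      have h3 : (b * inl x * b⁻¹).right = 1 := by
        simp
      have h4 : b * inl x * b⁻¹ = inl (b * inl x * b⁻¹).left := by
        nth_rewrite 1 [eq_inl_mul_inr hT (b * inl x * b⁻¹)]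
        rw [h3, map_one, mul_one]
      refine ⟨_, ?_, h4.symm⟩
      rw [h4] at h2
      exact (hX _).mp h2)
    have e : (PP hT ⊓ normalizer (Rh : Set (Gm T))) ⊓ (XX R T).map (inl : G →* Gm T)
        = (S ⊓ XX R T).map (inl : G →* Gm T) := by
      ext z
      constructor
      · rintro ⟨⟨hz1, _⟩, ⟨x, hx, rfl⟩⟩
        exact ⟨x, ⟨hz1, hx⟩, rfl⟩
      · rintro ⟨x, ⟨hx1, hx2⟩, rfl⟩
        exact ⟨⟨hx1, (hX x).mpr hx2⟩, ⟨x, hx2, rfl⟩⟩
    rw [e] at h1
    exact h1
  have hτfix := hloc R hRS hSyl'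
  intro z hz
  rw [mem_centralizer_singleton_iff]
  have h1 : (inl z.left : Gm T) ∈ normalizer (Rh : Set (Gm T)) := by
    have h2 : (inr z.right : Gm T) ∈ normalizer (Rh : Set (Gm T)) := le_normalizer (hinr _)
    have h3 := mul_mem hz (inv_mem h2)
    have e : z * (inr z.right)⁻¹ = inl z.left := by
      nth_rewrite 1 [eq_inl_mul_inr hT z]
      group
    rwa [e] at h3
  have h2 : τ z.left = z.left := hτfix _ ((hX _).mp h1)
  have h3 : (inr τ' : Gm T) * inl z.left = inl z.left * inr τ' := by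
    rw [inr_mul_inl]
    congr 2
  rw [eq_inl_mul_inr hT z, mul_assoc, hcomm, ← mul_assoc, ← h3, mul_assoc]

end Cfsg.Agent.Lib.LBal.Semi
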