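/-
Glauberman's theorem: if `O(G) = 1` and `S` is a Sylow `2`-subgroup of `G`, then the derived subgroup of
the group of automorphisms of `G` fixing `S` pointwise has odd order.
-/
import Mathlib
import Cfsg.Agent.Lib.LBal.Semi
import Cfsg.Agent.Lib.Transfer.Focal
import Cfsg.Agent.Lib.Involutions2.NormalFour

set_option autoImplicit false
set_option linter.style.haveILetI false
set_option linter.unusedSectionVars false

namespace Cfsg.Agent.Lib.LBal.Theta

open Subgroup Cfsg Cfsg.Agent.Lib.Core.Basic Cfsg.Agent.Lib.Coprime.Action Cfsg.Agent.Lib.LBal.Fusion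
  Cfsg.Agent.Lib.LBal.Semi
open scoped commutatorElement

universe u

section crossed

variable {G : Type u} [Group G] [Finite G]

/-- A crossed homomorphism into an abelian normal subgroup of exponent two, trivial on a subgroup of
odd index, is principal. -/
theorem exists_inner_of_crossed {S A : Subgroup G} (hA : ∀ a ∈ A, ∀ b ∈ A, a * b = b * a)
    (hAn : ∀ g : G, ∀ a ∈ A, g * a * g⁻¹ ∈ A) (ρ : G → G) (hρA : ∀ g, ρ g ∈ A)
    (hρmul : ∀ h g, ρ (h * g) = h * ρ g * h⁻¹ * ρ h) (hρS : ∀ s ∈ S, ρ s = 1)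
    (hρ2 : ∀ g, ρ g * ρ g = 1) (hodd : ¬ 2 ∣ S.index) :
    ∃ ζ ∈ A, ∀ h, ρ h = h * ζ⁻¹ * h⁻¹ * ζ := by
  classical
  letI : CommGroup A :=
    { (inferInstance : Group A) with mul_comm := fun a b => Subtype.ext (hA a a.2 b b.2) }
  haveI : Fintype (G ⧸ S) := Fintype.ofFinite _
  have hρc : ∀ g s, s ∈ S → ρ (g * s) = ρ g := by
    intro g s hs
    rw [hρmul, hρS s hs]
    group
  have hρq : ∀ g g' : G, (g : G ⧸ S) = g' → ρ g = ρ g' := by
    intro g g' h
    have h1 : g⁻¹ * g' ∈ S := QuotientGroup.eq.mp h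
    have e : g' = g * (g⁻¹ * g') := by group
    rw [e, hρc g _ h1]
  let f : G ⧸ S → A := fun c => ⟨ρ c.out, hρA _⟩
  have hf : ∀ g : G, ((f (g : G ⧸ S) : A) : G) = ρ g := by
    intro g
    exact hρq _ _ (QuotientGroup.out_eq' _)
  let ζ : A := ∏ c, f c
  let conjA (h : G) : A →* A :=
    { toFun := fun a => ⟨h * a * h⁻¹, hAn h a a.2⟩
      map_one' := by
        apply Subtype.ext
        show h * 1 * h⁻¹ = 1
        group
      map_mul' := fun a b => by
        apply Subtype.ext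
        show h * ((a : G) * b) * h⁻¹ = h * a * h⁻¹ * (h * b * h⁻¹)
        group }
  refine ⟨ζ, ζ.2, fun h => ?_⟩
  have h1 : ζ = ∏ c, f (h • c) := (Equiv.prod_comp (MulAction.toPerm h) f).symm
  have h2 : ∀ c, f (h • c) = conjA h (f c) * ⟨ρ h, hρA h⟩ := by
    intro c
    apply Subtype.ext
    have e : h • c = ((h * c.out : G) : G ⧸ S) := by
      conv_lhs => rw [← QuotientGroup.out_eq' c]
      rfl
    rw [e, hf, hρmul]
    rfl
  have h3 : ζ = conjA h ζ * (⟨ρ h, hρA h⟩ : A) ^ S.index := by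
    calc ζ = ∏ c, f (h • c) := h1
      _ = ∏ c, (conjA h (f c) * ⟨ρ h, hρA h⟩) := Finset.prod_congr rfl (fun c _ => h2 c)
      _ = _ := by
        rw [Finset.prod_mul_distrib, ← map_prod, Finset.prod_const, Finset.card_univ,
          ← Nat.card_eq_fintype_card, ← Subgroup.index_eq_card]
  have h4 : (⟨ρ h, hρA h⟩ : A) ^ S.index = ⟨ρ h, hρA h⟩ := by
    obtain ⟨k, hk⟩ := Nat.not_even_iff_odd.mp (fun h => hodd (even_iff_two_dvd.mp h))
    have h5 : (⟨ρ h, hρA h⟩ : A) * ⟨ρ h, hρA h⟩ = 1 := Subtype.ext (hρ2 h)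
    rw [hk, pow_succ, pow_mul, pow_two, h5, one_pow, one_mul]
  rw [h4] at h3
  have h5 : (ζ : G) = h * ζ * h⁻¹ * ρ h := congrArg Subtype.val h3
  have h6 : ρ h = (h * ζ * h⁻¹)⁻¹ * ζ := by
    nth_rewrite 2 [h5]
    group
  rw [h6]
  group

variable {S : Subgroup G} {T : Subgroup (MulAut G)}

/-- The case `N_G(R × T) = G`: the involution `τ` is inner. -/
theorem inner_of_XX_top {R : Subgroup G} (hT : T ≤ FixS S) (hRS : R ≤ S) (hX : XX R T = ⊤)
    (hSi : ¬ 2 ∣ S.index) {τ : MulAut G} (hτT : τ ∈ T) (hτ2 : τ * τ = 1) :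
    ∃ ζ ∈ S, ∀ g, τ g = ζ⁻¹ * g * ζ := by
  have hg : ∀ g : G, g ∈ XX R T := fun g => by rw [hX]; trivial
  have hτS : ∀ s ∈ S, τ s = s := hT hτT
  have hττ : ∀ g, τ (τ g) = g := fun g => by
    have := congrArg (fun f : MulAut G => f g) hτ2
    exact this
  let ρ : G → G := fun g => g * (τ g)⁻¹
  have hρR : ∀ g, ρ g ∈ R := fun g => (hg g).2 τ hτT
  have hN : ∀ (g : G), ∀ r ∈ R, g * r * g⁻¹ ∈ R := fun g r hr =>
    (mem_normalizer_iff.mp (hg g).1 r).mp hr
  have hρC : ∀ g, ∀ r ∈ R, r * ρ g = ρ g * r := by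
    intro g r hr
    have h1 := hN g⁻¹ r hr
    have h2 := hτS _ (hRS h1)
    simp only [map_mul, map_inv, inv_inv, hτS r (hRS hr)] at h2
    show r * (g * (τ g)⁻¹) = g * (τ g)⁻¹ * r
    calc r * (g * (τ g)⁻¹) = g * (g⁻¹ * r * g) * (τ g)⁻¹ := by group
      _ = g * ((τ g)⁻¹ * r * τ g) * (τ g)⁻¹ := by rw [h2]
      _ = _ := by group
  let A : Subgroup G := R ⊓ centralizer (R : Set G)
  have hA1 : ∀ a ∈ A, ∀ b ∈ A, a * b = b * a := by
    intro a ha b hb
    exact (mem_centralizer_iff.mp ha.2 b hb.1).symm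
  have hA2 : ∀ g : G, ∀ a ∈ A, g * a * g⁻¹ ∈ A := by
    intro g a ha
    refine ⟨hN g a ha.1, mem_centralizer_iff.mpr fun r hr => ?_⟩
    have h1 := hN g⁻¹ r hr
    have h2 := mem_centralizer_iff.mp ha.2 _ h1
    calc r * (g * a * g⁻¹) = g * (g⁻¹ * r * g⁻¹⁻¹ * a) * g⁻¹ := by group
      _ = g * (a * (g⁻¹ * r * g⁻¹⁻¹)) * g⁻¹ := by rw [h2]
      _ = _ := by group
  have hA3 : ∀ h g, ρ (h * g) = h * ρ g * h⁻¹ * ρ h := by
    intro h g
    show h * g * (τ (h * g))⁻¹ = h * (g * (τ g)⁻¹) * h⁻¹ * (h * (τ h)⁻¹)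
    rw [map_mul]
    group
  have hA4 : ∀ s ∈ S, ρ s = 1 := by
    intro s hs
    show s * (τ s)⁻¹ = 1
    rw [hτS s hs]
    group
  have hA5 : ∀ g, ρ g * ρ g = 1 := by
    intro g
    have h1 := hτS _ (hRS (hρR g))
    have h2 : τ (ρ g) = τ g * g⁻¹ := by
      show τ (g * (τ g)⁻¹) = _
      rw [map_mul, map_inv, hττ]
    have h3 : ρ g * ρ g = (g * (τ g)⁻¹) * (τ g * g⁻¹) := by
      show _ = ρ g * (τ g * g⁻¹)
      rw [← h2, h1]
    rw [h3]
    group
  obtain ⟨ζ, hζ, hζe⟩ := exists_inner_of_crossed (S := S) (A := A) hA1 hA2 ρ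
    (fun g => ⟨hρR g, mem_centralizer_iff.mpr fun r hr => hρC g r hr⟩) hA3 hA4 hA5 hSi
  refine ⟨ζ, hRS hζ.1, fun g => ?_⟩
  have h1 := hζe g
  have h2 : (τ g)⁻¹ = ζ⁻¹ * g⁻¹ * ζ := by
    have h3 : g * (τ g)⁻¹ = g * ζ⁻¹ * g⁻¹ * ζ := h1
    have h4 : g * (τ g)⁻¹ = g * (ζ⁻¹ * g⁻¹ * ζ) := by rw [h3]; group
    exact mul_left_cancel h4
  have h3 : τ g = (ζ⁻¹ * g⁻¹ * ζ)⁻¹ := by rw [← h2, inv_inv]
  rw [h3]
  group

/-- Automorphisms of `G` fixing `S` pointwise and normalizing `T` preserve `N_G(R × T)`. -/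
theorem map_mem_XX {R : Subgroup G} (hRS : R ≤ S) {a : MulAut G} (ha : a ∈ FixS S)
    (haT : a ∈ normalizer (T : Set (MulAut G))) {x : G} (hx : x ∈ XX R T) : a x ∈ XX R T := by
  constructor
  · apply mem_normalizer_fintype
    intro r hr
    have h1 := (mem_normalizer_iff.mp hx.1 r).mp hr
    have h2 := ha _ (hRS h1)
    have h3 := ha _ (hRS hr)
    simp only [map_mul, map_inv, h3] at h2
    rw [h2]
    exact h1
  · intro β hβ
    have hβ' : a⁻¹ * β * a ∈ T := by
      have := (mem_normalizer_iff.mp (inv_mem haT) β).mp hβ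
      simpa using this
    have h1 := hx.2 _ hβ'
    have h2 := ha _ (hRS h1)
    have e : (a⁻¹ * β * a) x = a⁻¹ (β (a x)) := rfl
    rw [e, map_mul, map_inv] at h2
    have e2 : a (a⁻¹ (β (a x))) = β (a x) := by simp
    rw [e2] at h2
    rw [h2]
    exact h1

end crossed

section quot

/-- Automorphisms act on the quotient by the odd core. -/
noncomputable def autQ (K : Type u) [Group K] [Finite K] : MulAut K →* MulAut (K ⧸ pPrimeCore 2 K) where
  toFun φ := QuotientGroup.congr _ _ φ (map_pPrimeCore_equiv φ)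
  map_one' := by
    ext x
    induction x using QuotientGroup.induction_on
    rfl
  map_mul' a b := by
    ext x
    induction x using QuotientGroup.induction_on
    rfl

theorem autQ_mk {K : Type u} [Group K] [Finite K] (φ : MulAut K) (x : K) :
    autQ K φ (x : K ⧸ pPrimeCore 2 K) = ((φ x : K) : K ⧸ pPrimeCore 2 K) := rfl

variable {G : Type u} [Group G]

/-- Restriction to an invariant subgroup. -/
def resAut (N : Subgroup (MulAut G)) (X : Subgroup G) (h : ∀ a ∈ N, ∀ x ∈ X, a x ∈ X) :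
    N →* MulAut X where
  toFun a :=
    { toFun := fun x => ⟨a.1 x, h _ a.2 _ x.2⟩
      invFun := fun x => ⟨a.1⁻¹ x, h _ (inv_mem a.2) _ x.2⟩
      left_inv := fun x => Subtype.ext (by simp)
      right_inv := fun x => Subtype.ext (by simp)
      map_mul' := fun x y => Subtype.ext (map_mul a.1 _ _) }
  map_one' := by
    ext x
    rfl
  map_mul' a b := by
    ext x
    rfl

theorem resAut_apply (N : Subgroup (MulAut G)) (X : Subgroup G) (h : ∀ a ∈ N, ∀ x ∈ X, a x ∈ X)
    (a : N) (x : X) : ((resAut N X h a x : X) : G) = a.1 x := rfl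

end quot

/-- The statement of Glauberman's theorem. -/
def ThetaProp (G : Type u) [Group G] : Prop :=
  ∀ S : Subgroup G, IsPGroup 2 S → ¬ 2 ∣ S.index → ∀ φ ∈ ⁅FixS S, FixS S⁆, ∀ k : ℕ, φ ^ (2 ^ k) = 1 → φ = 1

section main

variable {G : Type u} [Group G] [Finite G] {S : Subgroup G} {T : Subgroup (MulAut G)}

/-- A `2`-subgroup of automorphisms fixing `S` pointwise is abelian (if `O(G) = 1`). -/
theorem comm_of_le_Fix (hO : pPrimeCore 2 G = ⊥) (hSp : IsPGroup 2 S) (hSi : ¬ 2 ∣ S.index)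
    (hT : T ≤ FixS S) (hTp : IsPGroup 2 T) : ∀ a ∈ T, ∀ b ∈ T, a * b = b * a := by
  haveI : Fact (Nat.Prime 2) := ⟨Nat.prime_two⟩
  by_contra hcon
  push_neg at hcon
  obtain ⟨a, ha, b, hb, hab⟩ := hcon
  have hD : commutator T ≠ ⊥ := by
    intro h
    apply hab
    have h1 : ⁅(⟨a, ha⟩ : T), (⟨b, hb⟩ : T)⁆ ∈ commutator T := by
      rw [_root_.commutator_def]
      exact Subgroup.commutator_mem_commutator (mem_top _) (mem_top _)
    rw [h, mem_bot, commutatorElement_eq_one_iff_mul_comm] at h1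
    exact congrArg Subtype.val h1
  have h1 := Cfsg.Agent.Lib.Involutions2.NormalFour.inf_center_ne_bot hTp (commutator T) hD
  set E := commutator T ⊓ center T with hE
  have hEp : IsPGroup 2 E := hTp.to_subgroup E
  have hcard : 2 ∣ Nat.card E := by
    rcases hEp.card_eq_or_dvd with h2 | h2
    · exact absurd (Subgroup.eq_bot_of_card_eq E h2) h1
    · exact h2
  obtain ⟨x, hx⟩ := exists_prime_orderOf_dvd_card' 2 hcard
  have hx2 : x * x = 1 := by
    have := pow_orderOf_eq_one x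
    rwa [hx, pow_two] at this
  have hxT : ((x : T) : MulAut G) ∈ T := (x : T).2
  have hτ := eq_one_of_mem_commutator hO hSp hSi hT hTp hxT ?_ ?_ ?_
  · have h3 : x = 1 := by
      apply Subtype.ext
      apply Subtype.ext
      exact hτ
    rw [h3, orderOf_one] at hx
    omega
  · intro β hβ
    have h3 := mem_center_iff.mp x.2.2 ⟨β, hβ⟩
    exact (congrArg Subtype.val h3).symm
  · have h3 : ((x * x : E) : T) = 1 := by rw [hx2]; rfl
    exact congrArg Subtype.val h3
  · have h3 : ((x : T) : MulAut G) ∈ (commutator T).map T.subtype := ⟨_, x.2.1, rfl⟩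
    rwa [Subgroup.map_subtype_commutator] at h3

/-- An involution of `T ∩ N_M(T)'` is trivial. -/
theorem eq_one_of_mem_comm_normalizer
    (IH : ∀ (K : Type u) [Group K] [Finite K], Nat.card K < Nat.card G → pPrimeCore 2 K = ⊥ → ThetaProp K)
    (hO : pPrimeCore 2 G = ⊥) (hSp : IsPGroup 2 S) (hSi : ¬ 2 ∣ S.index)
    (hT : T ≤ FixS S) (hTp : IsPGroup 2 T) (hTi : ¬ 2 ∣ T.relIndex (FixS S)) {τ : MulAut G}
    (hτT : τ ∈ T) (hτ2 : τ * τ = 1)
    (hτc : τ ∈ ⁅FixS S ⊓ normalizer (T : Set (MulAut G)), FixS S ⊓ normalizer (T : Set (MulAut G))⁆) :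
    τ = 1 := by
  haveI : Fact (Nat.Prime 2) := ⟨Nat.prime_two⟩
  have hTc := comm_of_le_Fix hO hSp hSi hT hTp
  set N := FixS S ⊓ normalizer (T : Set (MulAut G)) with hN
  have hTN : T ≤ N := le_inf hT le_normalizer
  have hNM : N ≤ FixS S := inf_le_left
  have hτN : τ ∈ N := hTN hτT
  have hτ' : (⟨τ, hτN⟩ : N) ∈ commutator N := by
    have h1 : τ ∈ (commutator N).map N.subtype := by
      rw [Subgroup.map_subtype_commutator]
      exact hτc
    obtain ⟨t, ht, hte⟩ := h1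
    have h2 : t = ⟨τ, hτN⟩ := Subtype.ext hte
    rwa [← h2]
  apply eq_one_of_local hO hSp hSi hT hTp hTc hτT hτ2
  intro R hRS hSyl x hx
  by_cases hX : XX R T = ⊤
  · obtain ⟨ζ, hζ, hin⟩ := inner_of_XX_top hT hRS hX hSi hτT hτ2
    have hcent : ∀ a ∈ N, a * τ = τ * a := by
      intro a ha
      ext g
      show a (τ g) = τ (a g)
      rw [hin, hin, map_mul, map_mul, map_inv, hNM ha ζ hζ]
    -- transfer
    have hHc : IsMulCommutative (T.subgroupOf N) :=
      ⟨⟨fun a b => Subtype.ext (Subtype.ext (hTc a.1.1 a.2 b.1.1 b.2))⟩⟩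
    have hHp : IsPGroup 2 (T.subgroupOf N) := hTp.comap_subtype
    have hHi : ¬ 2 ∣ (T.subgroupOf N).index := by
      intro h
      apply hTi
      have h1 : (T.subgroupOf N).index = T.relIndex N := rfl
      rw [← Subgroup.relIndex_mul_relIndex T N (FixS S) hTN hNM, ← h1]
      exact Dvd.dvd.mul_right h _
    have hHall : Nat.Coprime (Nat.card (T.subgroupOf N)) (T.subgroupOf N).index := by
      obtain ⟨a, ha⟩ := IsPGroup.iff_card.mp hHp
      rw [ha]
      exact Nat.Coprime.pow_left a ((Nat.Prime.coprime_iff_not_dvd Nat.prime_two).mpr hHi)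
    have h3 := Cfsg.Agent.Lib.Transfer.Focal.abelian_hall_inf_eq_bot _ hHc hHall
    have h4 : (⟨τ, hτN⟩ : N) ∈ T.subgroupOf N ⊓ commutator N ⊓ center N := by
      refine ⟨⟨hτT, hτ'⟩, ?_⟩
      show _ ∈ center N
      rw [mem_center_iff]
      intro a
      exact Subtype.ext (hcent a.1 a.2)
    rw [h3, mem_bot] at h4
    have h5 : τ = 1 := congrArg Subtype.val h4
    rw [h5]
    rfl
  · -- the proper case: induction
    set X := XX R T with hXdef
    have hinv : ∀ a ∈ N, ∀ y ∈ X, a y ∈ X := fun a ha y hy =>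
      map_mem_XX hRS ha.1 ha.2 hy
    let ρ : N →* MulAut (X ⧸ pPrimeCore 2 X) := (autQ X).comp (resAut N X hinv)
    have hρmk : ∀ (a : N) (y : X), ρ a (y : X ⧸ pPrimeCore 2 X) =
        ((resAut N X hinv a y : X) : X ⧸ pPrimeCore 2 X) := fun a y => rfl
    set Sb : Subgroup (X ⧸ pPrimeCore 2 X) :=
      (S.subgroupOf X).map (QuotientGroup.mk' (pPrimeCore 2 X)) with hSb
    have hSbp : IsPGroup 2 Sb := (hSp.comap_subtype).map _
    have hSbi : ¬ 2 ∣ Sb.index := by
      intro h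
      have h1 := Subgroup.index_map_dvd (S.subgroupOf X) (QuotientGroup.mk'_surjective (pPrimeCore 2 X))
      apply hSyl.2.2
      rw [Subgroup.inf_relIndex_right]
      exact h.trans h1
    have hcard : Nat.card (X ⧸ pPrimeCore 2 X) < Nat.card G := by
      have h1 : Nat.card (X ⧸ pPrimeCore 2 X) ≤ Nat.card X :=
        Nat.le_of_dvd Nat.card_pos (Cfsg.Agent.Lib.Core.Basic.card_dvd_of_surjective _
          (QuotientGroup.mk'_surjective (pPrimeCore 2 X)))
      have h2 : Nat.card X < Nat.card G := by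
        refine lt_of_le_of_ne (Subgroup.card_le_card_group X) ?_
        intro h
        exact hX (Subgroup.eq_top_of_card_eq X h)
      omega
    have hΘ := IH _ hcard (pPrimeCore_quotient_eq_bot)
    have hρF : ∀ a : N, ρ a ∈ FixS Sb := by
      rintro a _ ⟨s, hs, rfl⟩
      have h1 : resAut N X hinv a s = s := Subtype.ext (hNM a.2 s.1 hs)
      show ρ a (s : X ⧸ pPrimeCore 2 X) = (s : X ⧸ pPrimeCore 2 X)
      rw [hρmk, h1]
    have hc : ρ ⟨τ, hτN⟩ ∈ ⁅FixS Sb, FixS Sb⁆ := by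
      have h1 : ρ ⟨τ, hτN⟩ ∈ (commutator N).map ρ := ⟨_, hτ', rfl⟩
      rw [_root_.commutator_def, Subgroup.map_commutator] at h1
      refine Subgroup.commutator_mono ?_ ?_ h1 <;>
      · rintro _ ⟨a, _, rfl⟩
        exact hρF a
    have hk : (ρ ⟨τ, hτN⟩) ^ (2 ^ 1) = 1 := by
      rw [pow_one, pow_two, ← map_mul]
      have : (⟨τ, hτN⟩ : N) * ⟨τ, hτN⟩ = 1 := Subtype.ext hτ2
      rw [this, map_one]
    have h1 := hΘ Sb hSbp hSbi _ hc 1 hk
    -- conclusion
    have hτx : τ x ∈ X := hinv τ hτN x hx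
    have h2 : ((⟨τ x, hτx⟩ : X) : X ⧸ pPrimeCore 2 X) = ((⟨x, hx⟩ : X) : X ⧸ pPrimeCore 2 X) := by
      have h3 := hρmk ⟨τ, hτN⟩ ⟨x, hx⟩
      rw [h1] at h3
      exact h3.symm
    have h3 : (⟨x, hx⟩ : X)⁻¹ * ⟨τ x, hτx⟩ ∈ pPrimeCore 2 X := by
      rw [← QuotientGroup.eq]
      exact h2.symm
    set w : X := (⟨x, hx⟩ : X)⁻¹ * ⟨τ x, hτx⟩ with hw
    have hwe : (w : G) = x⁻¹ * τ x := rfl
    have hwR : (w : G) ∈ R := by
      have h4 := (X.inv_mem hx).2 τ hτT
      rw [map_inv, inv_inv] at h4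
      rw [hwe]
      exact h4
    obtain ⟨k, hk'⟩ := (hSp.to_le hRS) ⟨w, hwR⟩
    have hwk : w ^ (2 ^ k) = 1 := by
      apply Subtype.ext
      have := congrArg Subtype.val hk'
      simpa using this
    have h4 := orderOf_coprime_of_mem_pPrimeCore h3
    have h5 : orderOf w ∣ 2 ^ k := orderOf_dvd_of_pow_eq_one hwk
    have h6 : orderOf w = 1 := Nat.Coprime.eq_one_of_dvd (Nat.Coprime.pow_right k h4) h5
    have h7 : w = 1 := orderOf_eq_one_iff.mp h6
    have h8 : x⁻¹ * τ x = 1 := by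
      rw [← hwe, h7]
      rfl
    exact (inv_mul_eq_one.mp h8).symm

/-- **Glauberman's theorem.** -/
theorem theta : ∀ (n : ℕ) (G : Type u) [Group G] [Finite G], Nat.card G = n → pPrimeCore 2 G = ⊥ →
    ThetaProp G := by
  intro n
  induction n using Nat.strong_induction_on with
  | _ n ih =>
    intro G _ _ hn hO S hSp hSi φ hφ k hk
    haveI : Fact (Nat.Prime 2) := ⟨Nat.prime_two⟩
    have IH : ∀ (K : Type u) [Group K] [Finite K], Nat.card K < Nat.card G → pPrimeCore 2 K = ⊥ →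
        ThetaProp K := fun K _ _ hK hOK => ih _ (hn ▸ hK) K rfl hOK
    set M := FixS S with hM
    obtain ⟨W⟩ : Nonempty (Sylow 2 M) := inferInstance
    have hSyl := isSylowIn_map W
    set T : Subgroup (MulAut G) := (W : Subgroup M).map M.subtype with hT
    have hTM : T ≤ M := hSyl.1
    have hTp : IsPGroup 2 T := hSyl.2.1
    have hTc := comm_of_le_Fix hO hSp hSi hTM hTp
    set N := M ⊓ normalizer (T : Set (MulAut G)) with hN
    have key : ∀ τ ∈ T, τ ∈ ⁅N, N⁆ → τ = 1 := by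
      intro τ hτ hτc
      by_contra hne
      set E := T ⊓ ⁅N, N⁆ with hE
      have hEp : IsPGroup 2 E := hTp.to_le inf_le_left
      have hE1 : E ≠ ⊥ := by
        intro h
        have : τ ∈ E := ⟨hτ, hτc⟩
        rw [h, mem_bot] at this
        exact hne this
      have hcard : 2 ∣ Nat.card E := by
        rcases hEp.card_eq_or_dvd with h2 | h2
        · exact absurd (Subgroup.eq_bot_of_card_eq E h2) hE1
        · exact h2
      obtain ⟨x, hx⟩ := exists_prime_orderOf_dvd_card' 2 hcard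
      have hx2 : x * x = 1 := by
        have := pow_orderOf_eq_one x
        rwa [hx, pow_two] at this
      have h3 := eq_one_of_mem_comm_normalizer IH hO hSp hSi hTM hTp hSyl.2.2 x.2.1
        (congrArg Subtype.val hx2) x.2.2
      have h4 : x = 1 := Subtype.ext h3
      rw [h4, orderOf_one] at hx
      omega
    have hNT : ∀ α ∈ N, ∀ β ∈ T, α * β = β * α := by
      intro α hα β hβ
      have h1 : α * β * α⁻¹ ∈ T := (mem_normalizer_iff.mp hα.2 β).mp hβ
      have h2 : α * β * α⁻¹ * β⁻¹ ∈ T := mul_mem h1 (inv_mem hβ)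
      have h3 : α * β * α⁻¹ * β⁻¹ ∈ ⁅N, N⁆ :=
        Subgroup.commutator_mem_commutator hα (le_inf hTM le_normalizer hβ)
      have h4 := key _ h2 h3
      exact mul_inv_eq_one.mp (by
        have e : α * β * α⁻¹ * β⁻¹ = (α * β) * (β * α)⁻¹ := by group
        rwa [e] at h4)
    -- Burnside's transfer theorem
    have hP : normalizer (W : Set M) ≤ centralizer (W : Set M) := by
      intro z hz
      have hzn : (z : MulAut G) ∈ normalizer (T : Set (MulAut G)) := by
        apply mem_normalizer_fintype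
        rintro _ ⟨w, hw, rfl⟩
        have h1 := (mem_normalizer_iff.mp hz w).mp hw
        exact ⟨_, h1, rfl⟩
      rw [mem_centralizer_iff]
      intro w hw
      apply Subtype.ext
      exact (hNT z ⟨z.2, hzn⟩ w ⟨w, hw, rfl⟩).symm
    let f := MonoidHom.transferSylow W hP
    have hWc : ∀ a b : (W : Subgroup M), a * b = b * a := fun a b =>
      Subtype.ext (Subtype.ext (hTc a.1.1 ⟨a.1, a.2, rfl⟩ b.1.1 ⟨b.1, b.2, rfl⟩))
    have hker : commutator M ≤ f.ker := by
      rw [_root_.commutator_def, Subgroup.commutator_le]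
      intro a _ b _
      show f ⁅a, b⁆ = 1
      rw [map_commutatorElement, commutatorElement_eq_one_iff_mul_comm]
      exact hWc _ _
    have hodd := MonoidHom.not_dvd_card_ker_transferSylow W hP
    have hφ' : φ ∈ (commutator M).map M.subtype := by
      rw [Subgroup.map_subtype_commutator]
      exact hφ
    obtain ⟨t, ht, rfl⟩ := hφ'
    have htk : (⟨t, hker ht⟩ : f.ker) ^ (2 ^ k) = 1 := by
      apply Subtype.ext
      apply Subtype.ext
      simpa using hk
    have h1 := orderOf_dvd_of_pow_eq_one htk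
    have h2 := orderOf_dvd_natCard (⟨t, hker ht⟩ : f.ker)
    obtain ⟨j, _, hj⟩ := (Nat.dvd_prime_pow Nat.prime_two).mp h1
    rw [hj] at h2
    have hj0 : j = 0 := by
      by_contra hj0
      exact hodd ((dvd_pow_self 2 hj0).trans h2)
    rw [hj0, pow_zero] at hj
    have h3 : (⟨t, hker ht⟩ : f.ker) = 1 := orderOf_eq_one_iff.mp hj
    have h4 : t = 1 := congrArg Subtype.val h3
    rw [h4]
    rfl

end main

end Cfsg.Agent.Lib.LBal.Theta
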