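/-
"Weak `p`-components": `p`-generated subgroups `M` of `G` whose image in `G / O_{p'}(G)` is a component.
A `p`-component is one; the notion is stable under homomorphisms with subnormal range.
-/
import Mathlib
import Cfsg.Agent.Lib.Signal.PComp
import Cfsg.Agent.Lib.PCStage.Basic
import Cfsg.Agent.Lib.Coprime.Quotient
import Cfsg.Agent.Lib.LBalance.Basic

set_option autoImplicit false
set_option linter.style.haveILetI false
set_option linter.unusedSectionVars false

namespace Cfsg.Agent.Lib.LBal.WC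

open Subgroup Cfsg Cfsg.Agent.Lib.Core.Basic Cfsg.Agent.Lib.Components.Basic
  Cfsg.Agent.Lib.PCStage.Basic
open scoped commutatorElement

universe u v

variable {G : Type u} [Group G] {H : Type v} [Group H]

/-- `M` is generated by its `p`-elements. -/
def PGen (p : ℕ) (M : Subgroup G) : Prop :=
  ∀ K : Subgroup G, (∀ g ∈ M, ∀ k : ℕ, g ^ (p ^ k) = 1 → g ∈ K) → M ≤ K

/-- A weak `p`-component. -/
def WC (p : ℕ) (M : Subgroup G) : Prop :=
  PGen p M ∧ IsComponent (M.map (QuotientGroup.mk' (pPrimeCore p G)))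

theorem PGen.map {p : ℕ} {M : Subgroup G} (h : PGen p M) (f : G →* H) : PGen p (M.map f) := by
  intro K hK
  rw [map_le_iff_le_comap]
  apply h
  intro g hg k hk
  exact hK _ ⟨g, hg, rfl⟩ k (by rw [← map_pow, hk, map_one])

/-- The subgroup generated by the `p`-elements of `M`. -/
def pPart (p : ℕ) (M : Subgroup G) : Subgroup G :=
  closure {g | g ∈ M ∧ ∃ k : ℕ, g ^ (p ^ k) = 1}

theorem pPart_le (p : ℕ) (M : Subgroup G) : pPart p M ≤ M :=
  (closure_le _).mpr fun _ hg => hg.1

theorem pGen_pPart (p : ℕ) (M : Subgroup G) : PGen p (pPart p M) := by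
  intro K hK
  rw [pPart, closure_le]
  rintro g ⟨hg, k, hk⟩
  exact hK g (Subgroup.subset_closure ⟨hg, k, hk⟩) k hk

theorem isSubnormal_map_of_range (f : G →* H) (hf : f.range.IsSubnormal) {K : Subgroup G}
    (hK : K.IsSubnormal) : (K.map f).IsSubnormal := by
  have h1 : (K.map f.rangeRestrict).IsSubnormal := hK.map f.rangeRestrict_surjective
  have h2 := IsSubnormal.trans' h1 hf
  rwa [Subgroup.map_map, show f.range.subtype.comp f.rangeRestrict = f from rfl] at h2

variable [Finite G] [Finite H] {p : ℕ}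

theorem map_core_le (f : G →* H) (hf : f.range.IsSubnormal) :
    (pPrimeCore p G).map f ≤ pPrimeCore p H := by
  apply le_pPrimeCore_of_isSubnormal
    (isSubnormal_map_of_range f hf (Subgroup.Normal.isSubnormal inferInstance))
  exact Nat.Coprime.coprime_dvd_left (Subgroup.card_map_dvd _ _) pPrimeCore_coprime

/-- The induced map on the quotients. -/
def coreMap (f : G →* H) (hf : f.range.IsSubnormal) :
    G ⧸ pPrimeCore p G →* H ⧸ pPrimeCore p H :=
  QuotientGroup.map _ _ f (map_le_iff_le_comap.mp (map_core_le f hf))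

theorem coreMap_comp (f : G →* H) (hf : f.range.IsSubnormal) :
    (coreMap (p := p) f hf).comp (QuotientGroup.mk' (pPrimeCore p G)) =
      (QuotientGroup.mk' (pPrimeCore p H)).comp f := rfl

theorem range_coreMap (f : G →* H) (hf : f.range.IsSubnormal) :
    (coreMap (p := p) f hf).range = f.range.map (QuotientGroup.mk' (pPrimeCore p H)) := by
  ext x
  constructor
  · rintro ⟨y, rfl⟩
    obtain ⟨y, rfl⟩ := QuotientGroup.mk'_surjective _ y
    exact ⟨f y, ⟨y, rfl⟩, rfl⟩
  · rintro ⟨_, ⟨y, rfl⟩, rfl⟩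
    exact ⟨QuotientGroup.mk' _ y, rfl⟩

/-- `p`-elements in the core are trivial. -/
theorem eq_one_of_mem_core {x : G} (hx : x ∈ pPrimeCore p G) {k : ℕ} (hk : x ^ (p ^ k) = 1) : x = 1 := by
  have h4 := orderOf_coprime_of_mem_pPrimeCore hx
  have h5 : orderOf x ∣ p ^ k := orderOf_dvd_of_pow_eq_one hk
  have h6 : orderOf x = 1 := Nat.Coprime.eq_one_of_dvd (Nat.Coprime.pow_right k h4) h5
  exact orderOf_eq_one_iff.mp h6

theorem WC.ne_bot [hp : Fact p.Prime] {M : Subgroup G} (h : WC p M) : M ≠ ⊥ := by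
  intro hb
  have := ne_bot_of_quasisimple h.2.2
  apply this
  rw [hb, Subgroup.map_bot]

/-- Images of weak `p`-components under homomorphisms with subnormal range. -/
theorem WC.map {M : Subgroup G} (h : WC p M) (f : G →* H) (hf : f.range.IsSubnormal) :
    M.map f = ⊥ ∨ WC p (M.map f) := by
  set K := M.map (QuotientGroup.mk' (pPrimeCore p G)) with hK
  have e : (M.map f).map (QuotientGroup.mk' (pPrimeCore p H)) = K.map (coreMap (p := p) f hf) := by
    rw [hK, Subgroup.map_map, Subgroup.map_map, coreMap_comp]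
  by_cases hb : K.map (coreMap (p := p) f hf) = ⊥
  · left
    rw [← e, Subgroup.map_eq_bot_iff, QuotientGroup.ker_mk'] at hb
    rw [Subgroup.map_eq_bot_iff]
    apply h.1
    intro g hg k hk
    rw [MonoidHom.mem_ker]
    exact eq_one_of_mem_core (hb ⟨g, hg, rfl⟩) (by rw [← map_pow, hk, map_one])
  · right
    refine ⟨h.1.map f, ?_⟩
    rw [e]
    have hnt : Nontrivial (K.map (coreMap (p := p) f hf)) := by
      rw [Subgroup.nontrivial_iff_ne_bot]; exact hb
    refine ⟨isSubnormal_map_of_range _ ?_ h.2.1, ?_⟩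
    · rw [range_coreMap]
      exact hf.map (QuotientGroup.mk'_surjective _)
    · exact quasisimple_of_surjective ((coreMap (p := p) f hf).subgroupMap K)
        (MonoidHom.subgroupMap_surjective _ _) h.2.2

/-- Transport along isomorphisms. -/
theorem WC.map_of_bijective [Fact p.Prime] {M : Subgroup G} (h : WC p M) (f : G →* H)
    (hf : Function.Bijective f) : WC p (M.map f) := by
  have hr : f.range = ⊤ := MonoidHom.range_eq_top.mpr hf.2
  rcases h.map f (by rw [hr]; exact Subgroup.Normal.isSubnormal inferInstance) with hb | hw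
  · exfalso
    rw [Subgroup.map_eq_bot_iff, (MonoidHom.ker_eq_bot_iff f).mpr hf.1, le_bot_iff] at hb
    exact h.ne_bot hb
  · exact hw

/-- A `p`-component is a weak `p`-component. -/
theorem wc_of_isPComponent [hp : Fact p.Prime] {K : Subgroup G} (hK : IsPComponent p K) : WC p K := by
  refine ⟨?_, hK.2.1⟩
  intro W hW
  -- the subgroup generated by the `p`-elements of `K`
  have h1 : pPart p K ≤ W := by
    rw [pPart, closure_le]
    rintro g ⟨hg, k, hk⟩
    exact hW g hg k hk
  refine le_trans ?_ h1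
  -- `pPart` is normal in `K`
  have hn : ((pPart p K).subgroupOf K).Normal := by
    constructor
    rintro ⟨n, hnK⟩ hn ⟨g, hg⟩
    rw [mem_subgroupOf] at hn ⊢
    show g * n * g⁻¹ ∈ pPart p K
    rw [pPart] at hn ⊢
    have hle : closure {g | g ∈ K ∧ ∃ k : ℕ, g ^ (p ^ k) = 1} ≤
        (closure {g | g ∈ K ∧ ∃ k : ℕ, g ^ (p ^ k) = 1}).comap (MulAut.conj g).toMonoidHom := by
      rw [closure_le]
      rintro x ⟨hx, k, hk⟩
      apply Subgroup.subset_closure
      refine ⟨K.mul_mem (K.mul_mem hg hx) (K.inv_mem hg), k, ?_⟩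
      show (g * x * g⁻¹) ^ (p ^ k) = 1
      rw [conj_pow, hk]
      group
    exact hle hn
  have hs : (pPart p K).IsSubnormal :=
    IsSubnormal.trans (pPart_le p K) (Subgroup.Normal.isSubnormal hn) hK.1
  apply Cfsg.Agent.Lib.LBalance.Basic.le_of_pElements hK hs
  intro g hg m hm
  exact Subgroup.subset_closure ⟨hg, m, hm⟩

theorem WC.le_layerPre {M : Subgroup G} (h : WC p M) :
    M ≤ Cfsg.Agent.Lib.Signal.Balance.layerPre p G := by
  rw [Cfsg.Agent.Lib.Signal.Balance.layerPre, ← map_le_iff_le_comap]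
  exact le_layer_of_isComponent h.2

section perfect

variable [hp : Fact p.Prime]

/-- A `p`-element which is the product of an element of a normal subgroup and a `p'`-element lies in the
normal subgroup. -/
theorem mem_of_mul_coprime {A : Type*} [Group A] [Finite A] (N : Subgroup A) [N.Normal] {x n o : A}
    (hn : n ∈ N) (he : x = n * o) (ho : (orderOf o).Coprime p) {k : ℕ} (hk : x ^ (p ^ k) = 1) : x ∈ N := by
  have h1 : (x : A ⧸ N) = (o : A ⧸ N) := by
    rw [QuotientGroup.eq, he]
    have : (n * o)⁻¹ * o = o⁻¹ * n⁻¹ * o := by group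
    rw [this]
    have h2 := (inferInstance : N.Normal).conj_mem n⁻¹ (N.inv_mem hn) o⁻¹
    simpa using h2
  have h3 : (x : A ⧸ N) ^ (p ^ k) = 1 := by
    rw [← QuotientGroup.mk_pow, hk]
    rfl
  have h4 : orderOf (x : A ⧸ N) ∣ p ^ k := orderOf_dvd_of_pow_eq_one h3
  have h5 : orderOf (x : A ⧸ N) ∣ orderOf o := by
    rw [h1]
    apply orderOf_dvd_of_pow_eq_one
    rw [← QuotientGroup.mk_pow, pow_orderOf_eq_one]
    rfl
  have h7 : (orderOf (x : A ⧸ N)).Coprime p := Nat.Coprime.coprime_dvd_left h5 ho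
  have h6 : orderOf (x : A ⧸ N) = 1 := Nat.Coprime.eq_one_of_dvd (Nat.Coprime.pow_right k h7) h4
  exact (QuotientGroup.eq_one_iff x).mp (orderOf_eq_one_iff.mp h6)

/-- Weak `p`-components are perfect. -/
theorem WC.perfect {M : Subgroup G} (h : WC p M) : ⁅M, M⁆ = M := by
  apply le_antisymm (Cfsg.Agent.Lib.Signal.PComp.commutator_le_self' M)
  apply h.1
  intro g hg k hk
  set π := QuotientGroup.mk' (pPrimeCore p G) with hπ
  have h1 : ⁅M.map π, M.map π⁆ = M.map π := commutator_self_of_quasisimple h.2.2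
  have h2 : π g ∈ ⁅M, M⁆.map π := by
    rw [Subgroup.map_commutator, h1]
    exact ⟨g, hg, rfl⟩
  obtain ⟨c, hc, hce⟩ := h2
  have hcM : c ∈ M := Cfsg.Agent.Lib.Signal.PComp.commutator_le_self' M hc
  have ho : c⁻¹ * g ∈ pPrimeCore p G := by
    rw [← QuotientGroup.eq]
    exact hce
  have h3 : (⟨g, hg⟩ : M) ∈ commutator M := by
    refine mem_of_mul_coprime (p := p) (commutator M) (n := ⟨c, hcM⟩) (o := ⟨c⁻¹ * g, M.mul_mem (M.inv_mem hcM) hg⟩)
      ?_ (Subtype.ext (by simp)) ?_ (k := k) (Subtype.ext (by simpa using hk))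
    · have : c ∈ (commutator M).map M.subtype := by
        rw [Subgroup.map_subtype_commutator]
        exact hc
      obtain ⟨c', hc', e⟩ := this
      have : c' = ⟨c, hcM⟩ := Subtype.ext e
      rwa [← this]
    · rw [Subgroup.orderOf_mk]
      exact orderOf_coprime_of_mem_pPrimeCore ho
  have h4 : g ∈ (commutator M).map M.subtype := ⟨_, h3, rfl⟩
  rwa [Subgroup.map_subtype_commutator] at h4

/-- The dichotomy. -/
theorem WC.dichotomy {M K : Subgroup G} (h : WC p M) (hK : K.IsSubnormal) :
    M ≤ K ∨ ⁅M, K⁆ ≤ pPrimeCore p G := by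
  set π := QuotientGroup.mk' (pPrimeCore p G) with hπ
  rcases component_le_or_commutator_eq_bot h.2 (hK.map (QuotientGroup.mk'_surjective _)) with h1 | h1
  · left
    apply h.1
    intro g hg k hk
    obtain ⟨y, hy, e⟩ := h1 ⟨g, hg, rfl⟩
    have h2 : y⁻¹ * g ∈ pPrimeCore p G := by
      rw [← QuotientGroup.eq]
      exact e
    have h3 : g ∈ K ⊔ pPrimeCore p G := by
      have e2 : g = y * (y⁻¹ * g) := by group
      rw [e2]
      exact mul_mem_sup hy h2
    exact mem_of_pow_eq_one_of_mem_sup hK inferInstance pPrimeCore_coprime hk h3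
  · right
    rw [← Subgroup.map_commutator, Subgroup.map_eq_bot_iff, QuotientGroup.ker_mk'] at h1
    exact h1

/-- A `p`-element above a given `p`-element of an image. -/
theorem exists_pelement_lift (f : G →* H) (c : G) {m : ℕ} (h : (f c) ^ (p ^ m) = 1) :
    ∃ y : G, (∃ k : ℕ, y ^ (p ^ k) = 1) ∧ f y = f c := by
  have hp1 : p.Prime := hp.out
  obtain ⟨a, u, hu, hc⟩ := Nat.exists_eq_pow_mul_and_not_dvd (orderOf_pos c).ne' p hp1.ne_one
  have hcop : Nat.Coprime u (p ^ (m + 1)) :=
    Nat.Coprime.pow_right _ ((Nat.Prime.coprime_iff_not_dvd hp1).mpr hu).symm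
  have h1p : 1 < p ^ (m + 1) := Nat.one_lt_pow (by omega) hp1.one_lt
  obtain ⟨v, -, hv⟩ := Nat.exists_mul_mod_eq_one_of_coprime hcop h1p
  have hpow1 : (f c) ^ (p ^ (m + 1)) = 1 := by
    rw [pow_succ, pow_mul, h, one_pow]
  refine ⟨c ^ (u * v), ⟨a, ?_⟩, ?_⟩
  · rw [← pow_mul]
    have : u * v * p ^ a = orderOf c * v := by
      rw [hc]
      ring
    rw [this, pow_mul, pow_orderOf_eq_one, one_pow]
  · rw [map_pow]
    have h2 : (f c) ^ (u * v) = (f c) ^ ((u * v) % p ^ (m + 1)) := by
      conv_lhs => rw [← Nat.mod_add_div (u * v) (p ^ (m + 1))]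
      rw [pow_add, pow_mul, hpow1, one_pow, mul_one]
    rw [h2, hv, pow_one]

/-- **Enlargement.** If `[M, R] ≤ O_{p'}(G)` then there is a weak `p`-component `M₁` of `C_G(R)` with
`M ≤ M₁ O_{p'}(G)`. -/
theorem exists_WC_centralizer {R M : Subgroup G} (hR : IsPGroup p R) (hM : WC p M)
    (hc : ⁅M, R⁆ ≤ pPrimeCore p G) :
    ∃ M₁ : Subgroup (centralizer (R : Set G)), WC p M₁ ∧
      M ≤ M₁.map (centralizer (R : Set G)).subtype ⊔ pPrimeCore p G := by
  classical
  set O := pPrimeCore p G with hO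
  set C := centralizer (R : Set G) with hC
  set π := QuotientGroup.mk' O with hπ
  let π₀ : C →* G ⧸ O := π.comp C.subtype
  set Mb := M.map π with hMb
  have hrange : π₀.range = centralizer ((R.map π : Subgroup (G ⧸ O)) : Set (G ⧸ O)) := by
    rw [Cfsg.Agent.Lib.Coprime.Quotient.centralizer_map_mk_eq O pPrimeCore_coprime R hR]
    ext x
    constructor
    · rintro ⟨y, rfl⟩
      exact ⟨y, y.2, rfl⟩
    · rintro ⟨y, hy, rfl⟩
      exact ⟨⟨y, hy⟩, rfl⟩
  have hMbC : Mb ≤ π₀.range := by
    rw [hrange, ← Subgroup.commutator_eq_bot_iff_le_centralizer, Subgroup.commutator_comm]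
    rw [hMb, ← Subgroup.map_commutator, Subgroup.map_eq_bot_iff, QuotientGroup.ker_mk',
      Subgroup.commutator_comm]
    exact hc
  let M₀ : Subgroup C := Mb.comap π₀
  let M₁ : Subgroup C := pPart p M₀
  have hM₁₀ : M₁ ≤ M₀ := pPart_le p M₀
  have himg : M₁.map π₀ = Mb := by
    apply le_antisymm
    · rw [map_le_iff_le_comap]
      exact hM₁₀
    · apply hM.1.map π
      intro g hg k hk
      obtain ⟨c, hce⟩ := hMbC hg
      obtain ⟨y, hy, hye⟩ := exists_pelement_lift π₀ c (p := p) (m := k) (by rw [hce]; exact hk)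
      rw [hce] at hye
      refine ⟨y, Subgroup.subset_closure ⟨?_, hy⟩, hye⟩
      show π₀ y ∈ Mb
      rw [hye]
      exact hg
  refine ⟨M₁, ⟨pGen_pPart p M₀, ?_⟩, ?_⟩
  · -- the component
    set ψ := QuotientGroup.mk' (pPrimeCore p C) with hψ
    have hker : π₀.ker ≤ pPrimeCore p C := by
      apply le_pPrimeCore (MonoidHom.normal_ker _)
      have h1 : Nat.card π₀.ker ∣ Nat.card O := by
        let g : π₀.ker →* O :=
          { toFun := fun x => ⟨x.1.1, by
              have h2 : π₀ x.1 = 1 := x.2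
              exact (QuotientGroup.eq_one_iff _).mp h2⟩
            map_one' := rfl
            map_mul' := fun _ _ => rfl }
        apply Subgroup.card_dvd_of_injective g
        intro a b hab
        have := congrArg Subtype.val hab
        exact Subtype.ext (Subtype.ext this)
      exact Nat.Coprime.coprime_dvd_left h1 pPrimeCore_coprime
    have hM₁ψ : M₁.map ψ = M₀.map ψ := by
      apply le_antisymm (Subgroup.map_mono hM₁₀)
      rintro _ ⟨x, hx, rfl⟩
      have h1 : π₀ x ∈ M₁.map π₀ := by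
        rw [himg]
        exact hx
      obtain ⟨m, hm, he⟩ := h1
      refine ⟨m, hm, ?_⟩
      have h2 : m⁻¹ * x ∈ π₀.ker := by
        rw [MonoidHom.mem_ker, map_mul, map_inv, he, inv_mul_cancel]
      have h3 := hker h2
      exact QuotientGroup.eq.mpr h3
    rw [hM₁ψ]
    constructor
    · -- subnormal
      have h1 : (Mb.subgroupOf π₀.range).IsSubnormal := hM.2.1.subgroupOf
      have h2 : (M₀ : Subgroup C) = (Mb.subgroupOf π₀.range).comap π₀.rangeRestrict := by
        ext x
        rfl
      rw [h2]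
      exact (h1.comap _).map (QuotientGroup.mk'_surjective _)
    · -- quasisimple
      have hnt : M₀.map ψ ≠ ⊥ := by
        intro hb
        rw [Subgroup.map_eq_bot_iff, QuotientGroup.ker_mk'] at hb
        have hcop : (Nat.card Mb).Coprime p := by
          have h3 : Mb = M₀.map π₀ := by
            rw [Subgroup.map_comap_eq_self hMbC]
          rw [h3]
          have h4 : Nat.card (M₀.map π₀) ∣ Nat.card M₀ := Subgroup.card_map_dvd _ _
          have h5 : Nat.card M₀ ∣ Nat.card (pPrimeCore p C) := Subgroup.card_dvd_of_le hb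
          exact Nat.Coprime.coprime_dvd_left (h4.trans h5) pPrimeCore_coprime
        have h6 := le_pPrimeCore_of_isSubnormal hM.2.1 hcop
        rw [pPrimeCore_quotient_eq_bot] at h6
        exact ne_bot_of_quasisimple hM.2.2 (le_bot_iff.mp h6)
      have hnt' : Nontrivial (M₀.map ψ) := by
        rw [Subgroup.nontrivial_iff_ne_bot]; exact hnt
      -- the map from `M₀.map π₀` to `M₀.map ψ`
      let g : M₀ →* (M₀.map π₀) := π₀.subgroupMap M₀
      let k : M₀ →* (M₀.map ψ) := ψ.subgroupMap M₀
      have hg : Function.Surjective g := MonoidHom.subgroupMap_surjective _ _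
      have hk : Function.Surjective k := MonoidHom.subgroupMap_surjective _ _
      have hgk : g.ker ≤ k.ker := by
        intro x hx
        have h1 : π₀ x.1 = 1 := congrArg Subtype.val hx
        have h2 : ψ x.1 = 1 := (QuotientGroup.eq_one_iff _).mpr (hker h1)
        exact Subtype.ext h2
      let F : (M₀.map π₀) →* (M₀.map ψ) := (MonoidHom.liftOfSurjective g hg) ⟨k, hgk⟩
      have hF : Function.Surjective F := by
        intro y
        obtain ⟨x, rfl⟩ := hk y
        exact ⟨g x, (MonoidHom.liftOfRightInverse_comp_apply _ _ _ _ x)⟩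
      have hQ : IsQuasisimple (M₀.map π₀) := by
        rw [Subgroup.map_comap_eq_self hMbC]
        exact hM.2.2
      exact quasisimple_of_surjective F hF hQ
  · intro g hg
    have h1 : π g ∈ M₁.map π₀ := by
      rw [himg]
      exact ⟨g, hg, rfl⟩
    obtain ⟨m, hm, he⟩ := h1
    have h2 : (m : G)⁻¹ * g ∈ O := QuotientGroup.eq.mp he
    have e2 : g = m * ((m : G)⁻¹ * g) := by group
    rw [e2]
    exact mul_mem_sup ⟨m, hm, rfl⟩ h2

end perfect

end Cfsg.Agent.Lib.LBal.WC
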