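/-
Reductions for `L_{2'}`-balance: quotient by `O(X)`, quotient by a central `2`-subgroup, passage to
`C_X(Z)`, and enlargement of the `2`-subgroup.
-/
import Mathlib
import Cfsg.Agent.Lib.LBal.WC
import Cfsg.Agent.Lib.LBal.Theta
import Cfsg.Agent.Lib.Components.Central
import Cfsg.Agent.Lib.Signal.MainLemma

set_option autoImplicit false
set_option linter.style.haveILetI false
set_option linter.unusedSectionVars false

namespace Cfsg.Agent.Lib.LBal.Reduce

open Subgroup Cfsg Cfsg.Agent.Lib.Core.Basic Cfsg.Agent.Lib.Components.Basic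
  Cfsg.Agent.Lib.PCStage.Basic Cfsg.Agent.Lib.LBal.WC Cfsg.Agent.Lib.Signal.Balance
  Cfsg.Agent.Lib.Signal.PComp Cfsg.Agent.Lib.LBal.Semi Cfsg.Agent.Lib.LBal.Theta
open scoped commutatorElement

universe u

/-- The statement of `L_{2'}`-balance for a group (meant for `O(X) = 1`). -/
def Bal (X : Type u) [Group X] : Prop :=
  ∀ T : Subgroup X, IsPGroup 2 T → ∀ M : Subgroup (centralizer (T : Set X)), WC 2 M →
    M.map (centralizer (T : Set X)).subtype ≤ layer X

variable {X : Type u} [Group X] [Finite X]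

section two

variable [hp2 : Fact (Nat.Prime 2)]

/-- The elements of `C_X(T)` in the quotient by `O(X)` or any normal subgroup. -/
def centMap (N : Subgroup X) [N.Normal] (T : Subgroup X) :
    centralizer (T : Set X) →*
      centralizer ((T.map (QuotientGroup.mk' N) : Subgroup (X ⧸ N)) : Set (X ⧸ N)) :=
  ((QuotientGroup.mk' N).comp (centralizer (T : Set X)).subtype).codRestrict _ (by
    rintro ⟨c, hc⟩
    rw [mem_centralizer_iff]
    rintro _ ⟨t, ht, rfl⟩
    show QuotientGroup.mk' N t * QuotientGroup.mk' N c = QuotientGroup.mk' N c * QuotientGroup.mk' N t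
    rw [← map_mul, ← map_mul, mem_centralizer_iff.mp hc t ht])

theorem centMap_apply (N : Subgroup X) [N.Normal] (T : Subgroup X) (c : centralizer (T : Set X)) :
    ((centMap N T c : centralizer _) : X ⧸ N) = QuotientGroup.mk' N (c : X) := rfl

/-- Reduction to `O(X) = 1`. -/
theorem le_layerPre_of_bal (hB : Bal (X ⧸ pPrimeCore 2 X)) {T : Subgroup X} (hT : IsPGroup 2 T)
    {M : Subgroup (centralizer (T : Set X))} (hM : WC 2 M) :
    M.map (centralizer (T : Set X)).subtype ≤ layerPre 2 X := by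
  set f := centMap (pPrimeCore 2 X) T with hf
  have hs : Function.Surjective f := by
    rintro ⟨y, hy⟩
    rw [Cfsg.Agent.Lib.Coprime.Quotient.centralizer_map_mk_eq _ pPrimeCore_coprime T hT] at hy
    obtain ⟨c, hc, rfl⟩ := hy
    exact ⟨⟨c, hc⟩, rfl⟩
  have hr : f.range.IsSubnormal := by
    rw [MonoidHom.range_eq_top.mpr hs]
    exact Subgroup.Normal.isSubnormal inferInstance
  rcases hM.map f hr with hb | hw
  · rintro _ ⟨x, hx, rfl⟩
    have h1 : f x = 1 := by
      have : f x ∈ M.map f := ⟨x, hx, rfl⟩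
      rw [hb, mem_bot] at this
      exact this
    have h2 : QuotientGroup.mk' (pPrimeCore 2 X) (x : X) = 1 := congrArg Subtype.val h1
    show QuotientGroup.mk' (pPrimeCore 2 X) (x : X) ∈ layer _
    rw [h2]
    exact one_mem _
  · have h1 := hB _ (hT.map _) _ hw
    rintro _ ⟨x, hx, rfl⟩
    exact h1 ⟨f x, ⟨x, hx, rfl⟩, rfl⟩

/-- If `O(X) = 1` the preimage of the layer is the layer. -/
theorem layerPre_le_layer (hO : pPrimeCore 2 X = ⊥) : layerPre 2 X ≤ layer X := by
  have hb : Function.Bijective (QuotientGroup.mk' (pPrimeCore 2 X)) := by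
    refine ⟨?_, QuotientGroup.mk'_surjective _⟩
    rw [← MonoidHom.ker_eq_bot_iff, QuotientGroup.ker_mk', hO]
  let e := MulEquiv.ofBijective _ hb
  intro x hx
  have h1 : QuotientGroup.mk' (pPrimeCore 2 X) x ∈ layer (X ⧸ pPrimeCore 2 X) := hx
  have h2 := layer_map_mulEquiv e
  rw [← h2] at h1
  obtain ⟨y, hy, hye⟩ := h1
  have h3 : y = x := hb.1 hye
  rwa [← h3]

theorem layerPre_le_sup : layerPre 2 X ≤ pLayer 2 X ⊔ pPrimeCore 2 X := by
  intro x hx
  have h1 : QuotientGroup.mk' (pPrimeCore 2 X) x ∈ layer (X ⧸ pPrimeCore 2 X) := hx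
  rw [← map_pLayer Nat.prime_two] at h1
  obtain ⟨l, hl, e⟩ := h1
  have h2 : l⁻¹ * x ∈ pPrimeCore 2 X := QuotientGroup.eq.mp e
  have e2 : x = l * (l⁻¹ * x) := by group
  rw [e2]
  exact mul_mem_sup hl h2

/-- `2`-elements of the preimage of the layer lie in the `2`-layer. -/
theorem mem_pLayer_of_mem_layerPre {x : X} (hx : x ∈ layerPre 2 X) {k : ℕ} (hk : x ^ (2 ^ k) = 1) :
    x ∈ pLayer 2 X :=
  mem_of_pow_eq_one_of_mem_sup (Subgroup.Normal.isSubnormal inferInstance) inferInstance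
    pPrimeCore_coprime hk (layerPre_le_sup hx)

end two

section central

variable [hp2 : Fact (Nat.Prime 2)] (Z : Subgroup X) [hZn : Z.Normal]

/-- The layer of a central quotient is the image of the layer. -/
theorem layer_quot_le (hZc : Z ≤ center X) : layer (X ⧸ Z) ≤ (layer X).map (QuotientGroup.mk' Z) := by
  rw [layer]
  apply sSup_le
  intro K hK
  set π := QuotientGroup.mk' Z with hπ
  set D := K.comap π with hD
  let f : D →* K := π.subgroupComap K
  have hf : Function.Surjective f :=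
    MonoidHom.subgroupComap_surjective_of_surjective π K (QuotientGroup.mk'_surjective _)
  have hker : f.ker ≤ center D := by
    intro x hx
    have h1 : π (x : X) = 1 := congrArg Subtype.val hx
    have h2 : (x : X) ∈ Z := (QuotientGroup.eq_one_iff _).mp h1
    rw [mem_center_iff]
    intro y
    exact Subtype.ext (mem_center_iff.mp (hZc h2) y)
  obtain ⟨-, hQ⟩ := Cfsg.Agent.Lib.Components.Central.commutator_quasisimple_of_central_ker f hf hker hK.2
  have hDs : D.IsSubnormal := hK.1.comap π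
  have hD₀ : IsComponent ((commutator D).map D.subtype) := by
    refine ⟨IsSubnormal.trans' (Subgroup.Normal.isSubnormal inferInstance) hDs, ?_⟩
    exact quasisimple_of_mulEquiv ((commutator D).equivMapOfInjective _ D.subtype_injective) hQ
  have hmap : (commutator D).map f = ⊤ := by
    rw [_root_.commutator_def, Subgroup.map_commutator, map_top_of_surjective f hf,
      ← _root_.commutator_def]
    exact (quasisimple_perfect hK.2)
  intro x hx
  have h1 : (⟨x, hx⟩ : K) ∈ (commutator D).map f := by rw [hmap]; trivial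
  obtain ⟨d, hd, e⟩ := h1
  refine ⟨d, le_layer_of_isComponent hD₀ ⟨d, hd, rfl⟩, ?_⟩
  exact congrArg Subtype.val e

/-- The quotient by a central `2`-subgroup has trivial odd core. -/
theorem core_quot_bot (hO : pPrimeCore 2 X = ⊥) (hZc : Z ≤ center X) (hZp : IsPGroup 2 Z) :
    pPrimeCore 2 (X ⧸ Z) = ⊥ := by
  set π := QuotientGroup.mk' Z with hπ
  set W := (pPrimeCore 2 (X ⧸ Z)).comap π with hW
  haveI hWn : W.Normal := inferInstance
  have hOW : pPrimeCore 2 W = ⊥ := by
    have h1 := map_pPrimeCore_of_isSubnormal (p := 2) (K := W) (Subgroup.Normal.isSubnormal hWn)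
    rw [hO, bot_inf_eq] at h1
    exact (Subgroup.map_eq_bot_iff_of_injective _ W.subtype_injective).mp h1
  let f : W →* pPrimeCore 2 (X ⧸ Z) := π.subgroupComap _
  have hf : Function.Surjective f :=
    MonoidHom.subgroupComap_surjective_of_surjective π _ (QuotientGroup.mk'_surjective _)
  have hker : ∀ x : W, x ∈ f.ker ↔ (x : X) ∈ Z := by
    intro x
    constructor
    · intro hx
      have h1 : π (x : X) = 1 := congrArg Subtype.val hx
      exact (QuotientGroup.eq_one_iff _).mp h1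
    · intro hx
      apply Subtype.ext
      exact (QuotientGroup.eq_one_iff _).mpr hx
  have hPp : IsPGroup 2 f.ker := by
    intro x
    obtain ⟨k, hk⟩ := hZp ⟨x.1.1, (hker x.1).mp x.2⟩
    refine ⟨k, Subtype.ext (Subtype.ext ?_)⟩
    have := congrArg Subtype.val hk
    simpa using this
  have hPi : ¬ 2 ∣ f.ker.index := by
    rw [Subgroup.index_ker, MonoidHom.range_eq_top.mpr hf, Subgroup.card_top]
    intro h
    have h2 := pPrimeCore_coprime (p := 2) (G := X ⧸ Z)
    rw [Nat.coprime_two_right] at h2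
    exact (Nat.not_even_iff_odd.mpr h2) (even_iff_two_dvd.mpr h)
  let P : Sylow 2 W := hPp.toSylow hPi
  have hPe : (P : Subgroup W) = f.ker := rfl
  have hcent : normalizer ((P : Subgroup W) : Set W) ≤ centralizer ((P : Subgroup W) : Set W) := by
    intro x _
    rw [mem_centralizer_iff]
    intro y hy
    rw [hPe] at hy
    apply Subtype.ext
    exact (mem_center_iff.mp (hZc ((hker y).mp hy)) x.1).symm
  have hcomp := MonoidHom.ker_transferSylow_isComplement' P hcent
  have hodd := MonoidHom.not_dvd_card_ker_transferSylow P hcent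
  have hKbot : (MonoidHom.transferSylow P hcent).ker = ⊥ := by
    rw [eq_bot_iff, ← hOW]
    apply le_pPrimeCore (MonoidHom.normal_ker _)
    exact (Nat.Prime.coprime_iff_not_dvd Nat.prime_two).mpr hodd |>.symm
  have hcard := hcomp.card_mul
  rw [hKbot, Subgroup.card_bot, one_mul] at hcard
  have hPtop : (P : Subgroup W) = ⊤ := Subgroup.eq_top_of_card_eq _ hcard
  rw [eq_bot_iff]
  intro x hx
  obtain ⟨y, rfl⟩ := QuotientGroup.mk'_surjective Z x
  have hy : y ∈ W := hx
  have h1 : (⟨y, hy⟩ : W) ∈ f.ker := by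
    rw [← hPe, hPtop]
    trivial
  have h2 := (hker _).mp h1
  rw [mem_bot]
  exact (QuotientGroup.eq_one_iff _).mpr h2

/-- Balance passes from `X / Z` to `X` for a central `2`-subgroup `Z`. -/
theorem bal_of_central (hZc : Z ≤ center X) (hB : Bal (X ⧸ Z)) (hZp : IsPGroup 2 Z) : Bal X := by
  intro T hT M hM
  set π := QuotientGroup.mk' Z with hπ
  set f := centMap Z T with hf
  have hr : f.range.Normal := by
    constructor
    rintro _ ⟨h, rfl⟩ ⟨c', hc'⟩
    obtain ⟨c, rfl⟩ := QuotientGroup.mk'_surjective Z c'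
    have hcom : ∀ t ∈ T, ∃ ζ ∈ Z, t * c * t⁻¹ = c * ζ := by
      intro t ht
      have h1 := mem_centralizer_iff.mp hc' (QuotientGroup.mk' Z t) ⟨t, ht, rfl⟩
      have h2 : c⁻¹ * (t * c * t⁻¹) ∈ Z := by
        apply (QuotientGroup.eq_one_iff _).mp
        show QuotientGroup.mk' Z (c⁻¹ * (t * c * t⁻¹)) = 1
        rw [map_mul, map_mul, map_mul, map_inv, map_inv, h1]
        group
      exact ⟨_, h2, by group⟩
    have hm : c * (h : X) * c⁻¹ ∈ centralizer (T : Set X) := by
      rw [mem_centralizer_iff]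
      intro t ht
      obtain ⟨ζ, hζ, e⟩ := hcom t ht
      have hth := mem_centralizer_iff.mp h.2 t ht
      have hζc := mem_center_iff.mp (hZc hζ)
      have e1 : t * c = c * ζ * t := by
        rw [← e]
        group
      have e2 : t * (c * (h : X) * c⁻¹) = (c * (h : X) * c⁻¹) * t := by
        calc t * (c * (h : X) * c⁻¹) = (t * c) * (h : X) * c⁻¹ := by group
          _ = c * ζ * t * (h : X) * c⁻¹ := by rw [e1]
          _ = c * ζ * (t * (h : X)) * c⁻¹ := by group
          _ = c * ζ * ((h : X) * t) * c⁻¹ := by rw [hth]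
          _ = c * (ζ * (h : X)) * t * c⁻¹ := by group
          _ = c * ((h : X) * ζ) * t * c⁻¹ := by rw [hζc (h : X)]
          _ = c * (h : X) * (ζ * t) * c⁻¹ := by group
          _ = c * (h : X) * (c⁻¹ * (t * c)) * c⁻¹ := by
            rw [e1]
            group
          _ = _ := by group
      exact e2
    refine ⟨⟨_, hm⟩, ?_⟩
    apply Subtype.ext
    show π (c * (h : X) * c⁻¹) = π c * π h * (π c)⁻¹
    rw [map_mul, map_mul, map_inv]
  have hperf := hM.perfect
  rcases hM.map f hr.isSubnormal with hb | hw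
  · -- `M` lies in `Z`
    have h1 : ∀ x ∈ M, (x : X) ∈ Z := by
      intro x hx
      have h2 : f x = 1 := by
        have : f x ∈ M.map f := ⟨x, hx, rfl⟩
        rw [hb, mem_bot] at this
        exact this
      have h3 : π (x : X) = 1 := congrArg Subtype.val h2
      exact (QuotientGroup.eq_one_iff _).mp h3
    have h2 : ⁅M, M⁆ = ⊥ := by
      rw [eq_bot_iff, Subgroup.commutator_le]
      intro a ha b hb
      rw [mem_bot, commutatorElement_eq_one_iff_mul_comm]
      apply Subtype.ext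
      exact mem_center_iff.mp (hZc (h1 b hb)) a.1
    rw [h2] at hperf
    rw [← hperf, Subgroup.map_bot]
    exact bot_le
  · have h1 := hB _ (hT.map _) _ hw
    have h2 : ∀ x ∈ M, ∃ e ∈ layer X, ∃ ζ ∈ Z, (x : X) = e * ζ := by
      intro x hx
      have h3 : π (x : X) ∈ layer (X ⧸ Z) := h1 ⟨f x, ⟨x, hx, rfl⟩, rfl⟩
      obtain ⟨e, he, e1⟩ := layer_quot_le Z hZc h3
      have h4 : e⁻¹ * (x : X) ∈ Z := QuotientGroup.eq.mp e1
      exact ⟨e, he, _, h4, by group⟩
    -- use perfectness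
    have h3 : M ≤ (layer X).comap (centralizer (T : Set X)).subtype := by
      rw [← hperf, Subgroup.commutator_le]
      intro a ha b hb
      obtain ⟨e₁, he₁, ζ₁, hζ₁, e1⟩ := h2 a ha
      obtain ⟨e₂, he₂, ζ₂, hζ₂, e2⟩ := h2 b hb
      show ((⁅a, b⁆ : centralizer (T : Set X)) : X) ∈ layer X
      have hz1 := mem_center_iff.mp (hZc hζ₁)
      have hz2 := mem_center_iff.mp (hZc hζ₂)
      have e3 : ((⁅a, b⁆ : centralizer (T : Set X)) : X) = e₁ * e₂ * e₁⁻¹ * e₂⁻¹ := by
        have e4 : ((⁅a, b⁆ : centralizer (T : Set X)) : X) = (a : X) * b * (a : X)⁻¹ * (b : X)⁻¹ := rfl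
        rw [e4, e1, e2]
        have c1 : ζ₁ * e₂ = e₂ * ζ₁ := (hz1 e₂).symm
        have c2 : ζ₂ * e₁⁻¹ = e₁⁻¹ * ζ₂ := (hz2 e₁⁻¹).symm
        have c3 : ζ₁ * ζ₂ = ζ₂ * ζ₁ := (hz1 ζ₂).symm
        have c4 : ζ₁⁻¹ * e₁⁻¹ = e₁⁻¹ * ζ₁⁻¹ := by
          have := mem_center_iff.mp (hZc (Z.inv_mem hζ₁)) e₁⁻¹
          exact this.symm
        have c5 : ζ₂ * ζ₁⁻¹ = ζ₁⁻¹ * ζ₂ := by
          have := mem_center_iff.mp (hZc (Z.inv_mem hζ₁)) ζ₂
          exact this
        calc e₁ * ζ₁ * (e₂ * ζ₂) * (e₁ * ζ₁)⁻¹ * (e₂ * ζ₂)⁻¹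
            = e₁ * (ζ₁ * e₂) * ζ₂ * (ζ₁⁻¹ * e₁⁻¹) * (ζ₂⁻¹ * e₂⁻¹) := by group
          _ = e₁ * (e₂ * ζ₁) * ζ₂ * (e₁⁻¹ * ζ₁⁻¹) * (ζ₂⁻¹ * e₂⁻¹) := by rw [c1, c4]
          _ = e₁ * e₂ * ζ₁ * (ζ₂ * e₁⁻¹) * ζ₁⁻¹ * ζ₂⁻¹ * e₂⁻¹ := by group
          _ = e₁ * e₂ * ζ₁ * (e₁⁻¹ * ζ₂) * ζ₁⁻¹ * ζ₂⁻¹ * e₂⁻¹ := by rw [c2]
          _ = e₁ * e₂ * (ζ₁ * e₁⁻¹) * (ζ₂ * ζ₁⁻¹) * ζ₂⁻¹ * e₂⁻¹ := by group
          _ = e₁ * e₂ * (e₁⁻¹ * ζ₁) * (ζ₁⁻¹ * ζ₂) * ζ₂⁻¹ * e₂⁻¹ := by
            rw [c5, (hz1 e₁⁻¹).symm]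
          _ = _ := by group
      rw [e3]
      exact mul_mem (mul_mem (mul_mem he₁ he₂) (inv_mem he₁)) (inv_mem he₂)
    rw [map_le_iff_le_comap]
    exact h3

end central

section moves

variable [hp2 : Fact (Nat.Prime 2)]

/-- Passage from `C_X(T)` to `C_X(Z)`, for `Z ≤ Z(T)`. -/
theorem exists_WC_of_le {T Z E : Subgroup X} (hZT : Z ≤ T) (hTZ : T ≤ centralizer (Z : Set X))
    (hT : IsPGroup 2 T) (hB : Bal (centralizer (Z : Set X) ⧸ pPrimeCore 2 (centralizer (Z : Set X))))
    {M : Subgroup (centralizer (T : Set X))} (hM : WC 2 M)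
    (hne : ¬ M.map (centralizer (T : Set X)).subtype ≤ E) :
    ∃ L : Subgroup (centralizer (Z : Set X)), WC 2 L ∧
      ¬ L.map (centralizer (Z : Set X)).subtype ≤ E := by
  set Y := centralizer (Z : Set X) with hY
  set T' : Subgroup Y := T.subgroupOf Y with hT'
  have hT'p : IsPGroup 2 T' := hT.comap_subtype
  have hle : centralizer (T : Set X) ≤ Y := centralizer_le hZT
  let f : centralizer (T : Set X) →* centralizer (T' : Set Y) :=
    { toFun := fun x => ⟨⟨x.1, hle x.2⟩, by
        rw [mem_centralizer_iff]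
        rintro ⟨t, ht⟩ ht'
        apply Subtype.ext
        exact mem_centralizer_iff.mp x.2 t ht'⟩
      map_one' := rfl
      map_mul' := fun _ _ => rfl }
  have hfb : Function.Bijective f := by
    constructor
    · intro a b hab
      have := congrArg (fun y : centralizer (T' : Set Y) => ((y : Y) : X)) hab
      exact Subtype.ext this
    · rintro ⟨⟨y, hy⟩, hy'⟩
      refine ⟨⟨y, ?_⟩, rfl⟩
      rw [mem_centralizer_iff]
      intro t ht
      have h1 := mem_centralizer_iff.mp hy' ⟨t, hTZ ht⟩ ht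
      exact congrArg Subtype.val h1
  have hM' := hM.map_of_bijective f hfb
  have h1 := le_layerPre_of_bal hB hT'p hM'
  by_contra hall
  push_neg at hall
  have h2 : pLayer 2 Y ≤ E.comap Y.subtype := by
    apply sSup_le
    intro K hK
    rw [← map_le_iff_le_comap]
    exact hall K (wc_of_isPComponent hK)
  apply hne
  rw [map_le_iff_le_comap]
  apply hM.1
  intro g hg k hk
  have h3 : ((f g : centralizer (T' : Set Y)) : Y) ∈ layerPre 2 Y := h1 ⟨f g, ⟨g, hg, rfl⟩, rfl⟩
  have h4 : ((f g : centralizer (T' : Set Y)) : Y) ^ (2 ^ k) = 1 := by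
    apply Subtype.ext
    have := congrArg Subtype.val hk
    simpa [f] using this
  exact h2 (mem_pLayer_of_mem_layerPre h3 h4)

/-- Enlargement of the `2`-subgroup. -/
theorem exists_WC_enlarge {Z R T₁ E : Subgroup X} [hEn : E.Normal] (hR : IsPGroup 2 R) (hRE : R ≤ E)
    (hRZ : R ≤ centralizer (Z : Set X))
    (hT₁ : centralizer (T₁ : Set X) = centralizer (Z : Set X) ⊓ centralizer (R : Set X))
    {L : Subgroup (centralizer (Z : Set X))} (hL : WC 2 L)
    (hne : ¬ L.map (centralizer (Z : Set X)).subtype ≤ E) :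
    ∃ L₁ : Subgroup (centralizer (T₁ : Set X)), WC 2 L₁ ∧
      ¬ L₁.map (centralizer (T₁ : Set X)).subtype ≤ E := by
  let H : Subgroup X := centralizer (Z : Set X)
  let K : Subgroup H := E.comap H.subtype
  have hKn : K.Normal := inferInstance
  let R' : Subgroup H := R.subgroupOf H
  have hR'K : R' ≤ K := fun x hx => hRE hx
  have hR'p : IsPGroup 2 R' := hR.comap_subtype
  have hLK : ¬ L ≤ K := by
    intro h
    apply hne
    rw [map_le_iff_le_comap]
    exact h
  rcases hL.dichotomy hKn.isSubnormal with h | h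
  · exact absurd h hLK
  · have hc : ⁅L, R'⁆ ≤ pPrimeCore 2 H := (Subgroup.commutator_mono le_rfl hR'K).trans h
    obtain ⟨M₁, hM₁, hle⟩ := exists_WC_centralizer hR'p hL hc
    let f : centralizer (R' : Set H) →* centralizer (T₁ : Set X) :=
      { toFun := fun x => ⟨x.1.1, by
          rw [hT₁]
          refine mem_inf.mpr ⟨x.1.2, mem_centralizer_iff.mpr fun r hr => ?_⟩
          have h1 := mem_centralizer_iff.mp x.2 ⟨r, hRZ hr⟩ hr
          exact congrArg Subtype.val h1⟩
        map_one' := rfl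
        map_mul' := fun _ _ => rfl }
    have hfb : Function.Bijective f := by
      constructor
      · intro a b hab
        have := congrArg Subtype.val hab
        exact Subtype.ext (Subtype.ext this)
      · rintro ⟨y, hy⟩
        have hy' := hy
        rw [hT₁] at hy'
        refine ⟨⟨⟨y, hy'.1⟩, ?_⟩, rfl⟩
        rw [mem_centralizer_iff]
        rintro ⟨r, hrH⟩ hr
        apply Subtype.ext
        exact mem_centralizer_iff.mp (mem_inf.mp hy').2 r hr
    refine ⟨M₁.map f, hM₁.map_of_bijective f hfb, ?_⟩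
    intro hcon
    apply hLK
    apply hL.1
    intro g hg k hk
    have h1 := hle hg
    have h2 : M₁.map (centralizer (R' : Set H)).subtype ≤ K := by
      rintro _ ⟨m, hm, rfl⟩
      exact hcon ⟨f m, ⟨m, hm, rfl⟩, rfl⟩
    have h3 : g ∈ K ⊔ pPrimeCore 2 H := sup_le_sup_right h2 _ h1
    exact mem_of_pow_eq_one_of_mem_sup hKn.isSubnormal inferInstance pPrimeCore_coprime hk h3

end moves

end Cfsg.Agent.Lib.LBal.Reduce
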