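/-
`L_{2'}`-balance.
-/
import Mathlib
import Cfsg.Agent.Lib.LBal.Reduce
import Cfsg.Agent.Lib.LBalance.Basic
import Cfsg.Agent.Lib.Involutions2.NormalFour

set_option autoImplicit false
set_option linter.style.haveILetI false
set_option linter.unusedSectionVars false

namespace Cfsg.Agent.Lib.LBal.Main

open Subgroup Cfsg Cfsg.Agent.Lib.Core.Basic Cfsg.Agent.Lib.Components.Basic
  Cfsg.Agent.Lib.PCStage.Basic Cfsg.Agent.Lib.LBal.WC Cfsg.Agent.Lib.Signal.Balance
  Cfsg.Agent.Lib.Signal.PComp Cfsg.Agent.Lib.LBal.Semi Cfsg.Agent.Lib.LBal.Theta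
  Cfsg.Agent.Lib.LBal.Reduce Cfsg.Agent.Lib.LBal.Fusion Cfsg.Agent.Lib.Coprime.Action
open scoped commutatorElement

universe u

variable {X : Type u} [Group X] [Finite X] [hp2 : Fact (Nat.Prime 2)]

/-- A weak `2`-component of `C_X(T)` centralizing the layer lies in the layer (when `O(X) = 1`). -/
theorem le_layer_of_centralizes (hO : pPrimeCore 2 X = ⊥) {T : Subgroup X} (hT : IsPGroup 2 T)
    {M : Subgroup (centralizer (T : Set X))} (hM : WC 2 M)
    (hcE : ∀ g ∈ M, ∀ e ∈ layer X, (g : X) * e = e * g) :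
    M.map (centralizer (T : Set X)).subtype ≤ layer X := by
  apply Cfsg.Agent.Lib.LBalance.Basic.le_layer_of_perfect (p := 2) hO
  · rw [← Subgroup.map_commutator, hM.perfect]
  · intro L hL
    refine le_trans ?_ le_sup_right
    rintro _ ⟨g, hg, rfl⟩
    rw [mem_centralizer_iff]
    intro l hl
    exact (hcE g hg l (le_layer_of_isComponent hL hl)).symm
  · rintro _ ⟨g, hg, rfl⟩ q hq
    -- inclusion of the centralizer into the normalizer
    let i : centralizer (T : Set X) →* normalizer (T : Set X) :=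
      Subgroup.inclusion (Subgroup.centralizer_le_normalizer _)
    have hr : i.range.Normal := by
      constructor
      rintro _ ⟨h, rfl⟩ ⟨n, hn⟩
      have hm : n * (h : X) * n⁻¹ ∈ centralizer (T : Set X) := by
        rw [mem_centralizer_iff]
        intro t ht
        have h1 : n⁻¹ * t * n ∈ T := by
          have := (mem_normalizer_iff.mp (inv_mem hn) t).mp ht
          simpa using this
        have h2 := mem_centralizer_iff.mp h.2 _ h1
        calc t * (n * (h : X) * n⁻¹) = n * ((n⁻¹ * t * n) * (h : X)) * n⁻¹ := by group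
          _ = n * ((h : X) * (n⁻¹ * t * n)) * n⁻¹ := by rw [h2]
          _ = _ := by group
      exact ⟨⟨_, hm⟩, Subtype.ext rfl⟩
    have hx : i g ∈ layerPre 2 (normalizer (T : Set X)) := by
      rcases hM.map i hr.isSubnormal with hb | hw
      · have : i g ∈ M.map i := ⟨g, hg, rfl⟩
        rw [hb, mem_bot] at this
        rw [this]
        exact one_mem _
      · exact hw.le_layerPre ⟨g, hg, rfl⟩
    exact layerPre_centralizes_pCore hT hx hq

/-- By Glauberman's theorem, a weak `2`-component of `C_X(T)`, `T` a Sylow subgroup of the layer, centralizes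
the layer. -/
theorem centralizes_of_sylow (hO : pPrimeCore 2 X = ⊥) {T : Subgroup X} (hTE : T ≤ layer X)
    (hT : IsPGroup 2 T) (hTi : ¬ 2 ∣ T.relIndex (layer X))
    {M : Subgroup (centralizer (T : Set X))} (hM : WC 2 M) :
    ∀ g ∈ M, ∀ e ∈ layer X, (g : X) * e = e * g := by
  set E := layer X with hE
  haveI hEn : E.Normal := layer_normal
  have hOE : pPrimeCore 2 E = ⊥ := by
    have h1 := map_pPrimeCore_of_isSubnormal (p := 2) (K := E) (Subgroup.Normal.isSubnormal hEn)
    rw [hO, bot_inf_eq] at h1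
    exact (Subgroup.map_eq_bot_iff_of_injective _ E.subtype_injective).mp h1
  set S₀ : Subgroup E := T.subgroupOf E with hS₀
  have hS₀p : IsPGroup 2 S₀ := hT.comap_subtype
  have hS₀i : ¬ 2 ∣ S₀.index := hTi
  let Ψ : centralizer (T : Set X) →* MulAut E :=
    (MulAut.conjNormal (H := E)).comp (centralizer (T : Set X)).subtype
  have hΨ : ∀ (c : centralizer (T : Set X)) (e : E), ((Ψ c e : E) : X) = c * e * (c : X)⁻¹ :=
    fun c e => MulAut.conjNormal_apply (c : X) e
  have hF : ∀ c, Ψ c ∈ FixS S₀ := by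
    intro c s hs
    apply Subtype.ext
    rw [hΨ]
    have h1 := mem_centralizer_iff.mp c.2 s.1 hs
    rw [← h1]
    group
  have hΘ := theta _ E rfl hOE S₀ hS₀p hS₀i
  have hM2 : M ≤ (centralizer (E : Set X)).comap (centralizer (T : Set X)).subtype := by
    apply hM.1
    intro g hg k hk
    have h1 : g ∈ ⁅M, M⁆ := by rw [hM.perfect]; exact hg
    have h2 : Ψ g ∈ ⁅FixS S₀, FixS S₀⁆ := by
      have h3 : Ψ g ∈ ⁅M, M⁆.map Ψ := ⟨g, h1, rfl⟩
      rw [Subgroup.map_commutator] at h3
      refine Subgroup.commutator_mono ?_ ?_ h3 <;>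
      · rintro _ ⟨a, _, rfl⟩
        exact hF a
    have h3 : Ψ g ^ (2 ^ k) = 1 := by rw [← map_pow, hk, map_one]
    have h4 := hΘ _ h2 k h3
    rw [mem_comap, mem_centralizer_iff]
    intro e he
    have h5 := congrArg (fun φ : MulAut E => ((φ ⟨e, he⟩ : E) : X)) h4
    simp only [hΨ] at h5
    have h6 : (g : X) * e * (g : X)⁻¹ = e := h5
    show e * (g : X) = (g : X) * e
    calc e * (g : X) = ((g : X) * e * (g : X)⁻¹) * g := by rw [h6]
      _ = _ := by group
  intro g hg e he
  exact (mem_centralizer_iff.mp (hM2 hg) e he).symm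

omit [Finite X] hp2 in
theorem centralizer_sup_eq (A B : Subgroup X) :
    centralizer ((A ⊔ B : Subgroup X) : Set X) = centralizer (A : Set X) ⊓ centralizer (B : Set X) := by
  apply le_antisymm
  · exact le_inf (centralizer_le (SetLike.coe_subset_coe.mpr le_sup_left))
      (centralizer_le (SetLike.coe_subset_coe.mpr le_sup_right))
  · intro x hx
    rw [mem_centralizer_iff]
    have h : A ⊔ B ≤ centralizer ({x} : Set X) := by
      apply sup_le
      · intro a ha
        rw [mem_centralizer_singleton_iff]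
        exact mem_centralizer_iff.mp (mem_inf.mp hx).1 a ha
      · intro a ha
        rw [mem_centralizer_singleton_iff]
        exact mem_centralizer_iff.mp (mem_inf.mp hx).2 a ha
    intro y hy
    exact mem_centralizer_singleton_iff.mp (h hy)

/-- The chain argument: if `O(X) = 1`, `X` has no central involution, and balance holds in smaller groups, then
balance holds in `X`. -/
theorem bal_of_no_central (hO : pPrimeCore 2 X = ⊥)
    (hZ : ∀ z ∈ center X, orderOf z ≠ 2)
    (IH : ∀ (Y : Type u) [Group Y] [Finite Y], Nat.card Y < Nat.card X → pPrimeCore 2 Y = ⊥ → Bal Y) :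
    Bal X := by
  classical
  intro T₀ hT₀ M₀ hM₀
  by_contra hne
  set E := layer X with hE
  haveI hEn : E.Normal := layer_normal
  -- balance in centralizers
  have hBc : ∀ Z : Subgroup X, IsPGroup 2 Z → Z ≠ ⊥ →
      Bal (centralizer (Z : Set X) ⧸ pPrimeCore 2 (centralizer (Z : Set X))) := by
    intro Z hZp hZ1
    have hcard : 2 ∣ Nat.card Z := by
      rcases hZp.card_eq_or_dvd with h2 | h2
      · exact absurd (Subgroup.eq_bot_of_card_eq Z h2) hZ1
      · exact h2
    obtain ⟨x, hx⟩ := exists_prime_orderOf_dvd_card' 2 hcard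
    have hxo : orderOf (x : X) = 2 := by rwa [Subgroup.orderOf_coe]
    have hne : centralizer (Z : Set X) ≠ ⊤ := by
      intro h
      apply hZ (x : X) _ hxo
      rw [mem_center_iff]
      intro g
      have : g ∈ centralizer (Z : Set X) := by rw [h]; trivial
      exact (mem_centralizer_iff.mp this x x.2).symm
    apply IH _ _ pPrimeCore_quotient_eq_bot
    have h1 : Nat.card (centralizer (Z : Set X) ⧸ pPrimeCore 2 (centralizer (Z : Set X))) ≤
        Nat.card (centralizer (Z : Set X)) :=
      Nat.le_of_dvd Nat.card_pos (Cfsg.Agent.Lib.Core.Basic.card_dvd_of_surjective _ (QuotientGroup.mk'_surjective _))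
    have h2 : Nat.card (centralizer (Z : Set X)) < Nat.card X := by
      refine lt_of_le_of_ne (Subgroup.card_le_card_group _) ?_
      intro h
      exact hne (Subgroup.eq_top_of_card_eq _ h)
    omega
  -- `T₀ ≠ 1`
  have hT₀1 : T₀ ≠ ⊥ := by
    intro hb
    subst hb
    apply hne
    have htop : centralizer ((⊥ : Subgroup X) : Set X) = ⊤ := by
      rw [eq_top_iff]
      intro g _
      rw [mem_centralizer_iff]
      intro h hh
      have : h = 1 := hh
      rw [this]
      group
    have hb : Function.Bijective (centralizer ((⊥ : Subgroup X) : Set X)).subtype := by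
      refine ⟨Subtype.val_injective, fun g => ⟨⟨g, by rw [htop]; trivial⟩, rfl⟩⟩
    exact (hM₀.map_of_bijective _ hb).le_layerPre.trans (layerPre_le_layer hO)
  -- `E` has even order
  have hE1 : E ≠ ⊥ := by
    intro hb
    apply hne
    apply le_layer_of_centralizes hO hT₀ hM₀
    intro g _ e he
    rw [← hE, hb, mem_bot] at he
    rw [he]
    group
  have hEeven : 2 ∣ Nat.card E := by
    by_contra hodd
    apply hE1
    rw [eq_bot_iff, ← hO]
    exact le_pPrimeCore hEn ((Nat.Prime.coprime_iff_not_dvd Nat.prime_two).mpr hodd).symm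
  -- a central involution of `T₀`
  haveI hT₀nt : Nontrivial T₀ := (Subgroup.nontrivial_iff_ne_bot _).mpr hT₀1
  have hcZ : 2 ∣ Nat.card (center T₀) := by
    have hnt : Nontrivial (center T₀) := hT₀.center_nontrivial
    have hp := (hT₀.to_subgroup (center T₀))
    rcases hp.card_eq_or_dvd with h2 | h2
    · exact absurd h2 Finite.one_lt_card.ne'
    · exact h2
  obtain ⟨t', ht'⟩ := exists_prime_orderOf_dvd_card' 2 hcZ
  set t : X := ((t' : T₀) : X) with ht
  have hto : orderOf t = 2 := by
    rw [ht, ← Subgroup.orderOf_coe, ← Subgroup.orderOf_coe] at *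
    exact ht'
  have htp : IsPGroup 2 (zpowers t) := by
    apply IsPGroup.of_card (n := 1)
    rw [Nat.card_zpowers, hto, pow_one]
  have htT : zpowers t ≤ T₀ := by
    rw [zpowers_le]
    exact (t' : T₀).2
  have hT₀t : T₀ ≤ centralizer ((zpowers t : Subgroup X) : Set X) := by
    rw [Subgroup.le_centralizer_iff]
    rw [zpowers_le, mem_centralizer_iff]
    intro y hy
    have := mem_center_iff.mp t'.2 ⟨y, hy⟩
    exact congrArg Subtype.val this
  have ht1 : zpowers t ≠ ⊥ := by
    intro h
    rw [zpowers_eq_bot] at h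
    rw [h, orderOf_one] at hto
    omega
  obtain ⟨L₁, hL₁, hL₁E⟩ := exists_WC_of_le htT hT₀t hT₀ (hBc _ htp ht1) hM₀ hne
  -- an involution of `E` commuting with `t`
  obtain ⟨z, hzE, hzt, hzo⟩ : ∃ z ∈ E, z * t = t * z ∧ orderOf z = 2 := by
    obtain ⟨P, hP⟩ := htp.exists_le_sylow
    have hPE : IsSylowIn 2 ((P : Subgroup X) ⊓ E) E := by
      apply Cfsg.Agent.Lib.LBal.Semi.isSylowIn_inf_normal
        (isSylowIn_of_le (K := ⊤) P.isPGroup' P.not_dvd_index le_top) le_top
      intro b _ d hd
      exact hEn.conj_mem d hd b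
    have hPE2 : 2 ∣ Nat.card ((P : Subgroup X) ⊓ E : Subgroup X) := by
      have h1 := card_eq_card_mul_relIndex hPE.1
      rw [h1] at hEeven
      exact (Nat.Prime.dvd_mul Nat.prime_two).mp hEeven |>.resolve_right hPE.2.2
    -- `P ∩ E` is a nontrivial normal subgroup of `P`
    let N : Subgroup (P : Subgroup X) := E.subgroupOf (P : Subgroup X)
    haveI hNn : N.Normal := inferInstance
    have hNcard : Nat.card N = Nat.card ((P : Subgroup X) ⊓ E : Subgroup X) := by
      show Nat.card (E.subgroupOf (P : Subgroup X)) = _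
      rw [← Subgroup.inf_subgroupOf_left]
      exact Nat.card_congr (Subgroup.subgroupOfEquivOfLe inf_le_left).toEquiv
    have hN1 : N ≠ ⊥ := by
      intro h
      rw [h, Subgroup.card_bot] at hNcard
      rw [← hNcard] at hPE2
      omega
    have h1 := Cfsg.Agent.Lib.Involutions2.NormalFour.inf_center_ne_bot P.isPGroup' N hN1
    have hp : IsPGroup 2 (N ⊓ center (P : Subgroup X) : Subgroup (P : Subgroup X)) :=
      P.isPGroup'.to_subgroup _
    have hc2 : 2 ∣ Nat.card (N ⊓ center (P : Subgroup X) : Subgroup (P : Subgroup X)) := by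
      rcases hp.card_eq_or_dvd with h2 | h2
      · exact absurd (Subgroup.eq_bot_of_card_eq _ h2) h1
      · exact h2
    obtain ⟨x, hx⟩ := exists_prime_orderOf_dvd_card' 2 hc2
    refine ⟨((x : (P : Subgroup X)) : X), x.2.1, ?_, ?_⟩
    · have h3 := mem_center_iff.mp x.2.2 ⟨t, hP (mem_zpowers t)⟩
      exact (congrArg Subtype.val h3).symm
    · rw [Subgroup.orderOf_coe, Subgroup.orderOf_coe]
      exact hx
  have hzp : IsPGroup 2 (zpowers z) := by
    apply IsPGroup.of_card (n := 1)
    rw [Nat.card_zpowers, hzo, pow_one]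
  have hz1 : zpowers z ≠ ⊥ := by
    intro h
    rw [zpowers_eq_bot] at h
    rw [h, orderOf_one] at hzo
    omega
  have hzE' : zpowers z ≤ E := by
    rw [zpowers_le]
    exact hzE
  have hzC : zpowers z ≤ centralizer ((zpowers t : Subgroup X) : Set X) := by
    rw [Subgroup.le_centralizer_iff, zpowers_le, mem_centralizer_iff]
    intro y hy
    obtain ⟨k, rfl⟩ := hy
    show z ^ k * t = t * z ^ k
    exact ((Commute.zpow_left hzt k).eq)
  have hzN : zpowers z ≤ normalizer ((zpowers t : Subgroup X) : Set X) :=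
    hzC.trans (Subgroup.centralizer_le_normalizer _)
  have hT₂p : IsPGroup 2 (zpowers t ⊔ zpowers z : Subgroup X) := htp.to_sup_of_normal_left' hzp hzN
  obtain ⟨L₂, hL₂, hL₂E⟩ := exists_WC_enlarge (T₁ := zpowers t ⊔ zpowers z) hzp hzE' hzC
    (centralizer_sup_eq _ _) hL₁ hL₁E
  have hT₂z : zpowers t ⊔ zpowers z ≤ centralizer ((zpowers z : Subgroup X) : Set X) := by
    apply sup_le
    · rw [Subgroup.le_centralizer_iff]
      exact hzC
    · rw [Subgroup.le_centralizer_iff, zpowers_le, mem_centralizer_iff]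
      intro y hy
      obtain ⟨k, rfl⟩ := hy
      show z ^ k * z = z * z ^ k
      exact (Commute.zpow_left (Commute.refl z) k).eq
  obtain ⟨L₃, hL₃, hL₃E⟩ := exists_WC_of_le le_sup_right hT₂z hT₂p (hBc _ hzp hz1) hL₂ hL₂E
  -- the family
  let F : Set (Subgroup X) := {T | T ≤ E ∧ IsPGroup 2 T ∧ T ≠ ⊥ ∧
    ∃ L : Subgroup (centralizer (T : Set X)), WC 2 L ∧ ¬ L.map (centralizer (T : Set X)).subtype ≤ E}
  have hF : F.Nonempty := ⟨zpowers z, hzE', hzp, hz1, L₃, hL₃, hL₃E⟩
  obtain ⟨T, ⟨hTE, hTp, hT1, L, hL, hLE⟩, hTmax⟩ := Set.exists_max_image F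
    (fun T : Subgroup X => Nat.card T) (Set.toFinite _) hF
  have hSyl : ¬ 2 ∣ T.relIndex E := by
    intro h2
    obtain ⟨Q, hQ, hTQ⟩ := exists_isSylowIn_ge hTE hTp
    have hne' : T ≠ Q := by
      rintro rfl
      exact hQ.2.2 h2
    have hlt : T < Q := lt_of_le_of_ne hTQ hne'
    have hTN := lt_inf_normalizer hQ.2.1 hlt
    set N := Q ⊓ normalizer (T : Set X) with hN
    have hNp : IsPGroup 2 N := hQ.2.1.to_le inf_le_left
    have hNE : N ≤ E := inf_le_left.trans hQ.1
    -- the central part
    set Z₀ := T ⊓ centralizer (N : Set X) with hZ₀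
    have hZ₀p : IsPGroup 2 Z₀ := hTp.to_le inf_le_left
    have hZ₀1 : Z₀ ≠ ⊥ := by
      haveI hn : (T.subgroupOf N).Normal :=
        Subgroup.normal_subgroupOf_of_le_normalizer inf_le_right
      have hb : T.subgroupOf N ≠ ⊥ := by
        intro h
        apply hT1
        rw [eq_bot_iff]
        intro x hx
        have h3 : (⟨x, hTN.le hx⟩ : N) ∈ T.subgroupOf N := hx
        rw [h, mem_bot] at h3
        have := congrArg Subtype.val h3
        exact this
      have h3 := Cfsg.Agent.Lib.Involutions2.NormalFour.inf_center_ne_bot hNp (T.subgroupOf N) hb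
      intro h
      apply h3
      rw [eq_bot_iff]
      rintro x ⟨hx1, hx2⟩
      have h4 : (x : X) ∈ Z₀ := by
        refine mem_inf.mpr ⟨hx1, mem_centralizer_iff.mpr fun n hn => ?_⟩
        have := mem_center_iff.mp hx2 ⟨n, hn⟩
        exact congrArg Subtype.val this
      rw [h, mem_bot] at h4
      exact Subtype.ext h4
    have hZ₀T : Z₀ ≤ T := inf_le_left
    have hTZ₀ : T ≤ centralizer (Z₀ : Set X) := by
      intro y hy
      rw [mem_centralizer_iff]
      intro w hw
      exact mem_centralizer_iff.mp (mem_inf.mp hw).2 y (hTN.le hy) |>.symm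
    obtain ⟨L', hL', hL'E⟩ := exists_WC_of_le hZ₀T hTZ₀ hTp (hBc _ hZ₀p hZ₀1) hL hLE
    have hNZ : N ≤ centralizer (Z₀ : Set X) := by
      intro y hy
      rw [mem_centralizer_iff]
      intro w hw
      exact (mem_centralizer_iff.mp (mem_inf.mp hw).2 y hy).symm
    have hCN : centralizer (N : Set X) = centralizer (Z₀ : Set X) ⊓ centralizer (N : Set X) :=
      (inf_eq_right.mpr (centralizer_le (hZ₀T.trans hTN.le))).symm
    obtain ⟨L₁', hL₁', hL₁'E⟩ := exists_WC_enlarge (T₁ := N) hNp hNE hNZ hCN hL' hL'E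
    have hNF : N ∈ F := ⟨hNE, hNp, ?_, L₁', hL₁', hL₁'E⟩
    · have hc := hTmax N hNF
      exact hTN.ne (Subgroup.eq_of_le_of_card_ge hTN.le hc)
    · intro h
      rw [h] at hTN
      exact hT1 (le_bot_iff.mp hTN.le)
  exact hLE (le_layer_of_centralizes hO hTp hL (centralizes_of_sylow hO hTE hTp hSyl hL))

/-- **`L_{2'}`-balance in groups with `O(X) = 1`.** -/
theorem bal : ∀ (n : ℕ) (X : Type u) [Group X] [Finite X], Nat.card X = n → pPrimeCore 2 X = ⊥ → Bal X := by
  intro n
  induction n using Nat.strong_induction_on with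
  | _ n ih =>
    intro X _ _ hn hO
    haveI hp2 : Fact (Nat.Prime 2) := ⟨Nat.prime_two⟩
    have IH : ∀ (Y : Type u) [Group Y] [Finite Y], Nat.card Y < Nat.card X → pPrimeCore 2 Y = ⊥ → Bal Y :=
      fun Y _ _ h hOY => ih _ (hn ▸ h) Y rfl hOY
    by_cases hz : ∃ z ∈ center X, orderOf z = 2
    · obtain ⟨z, hzc, hzo⟩ := hz
      have hZc : zpowers z ≤ center X := by
        rw [zpowers_le]
        exact hzc
      haveI hZn : (zpowers z).Normal := by
        constructor
        intro n hn g
        have := mem_center_iff.mp (hZc hn) g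
        rw [this]
        simpa using hn
      have hZp : IsPGroup 2 (zpowers z) := by
        apply IsPGroup.of_card (n := 1)
        rw [Nat.card_zpowers, hzo, pow_one]
      apply bal_of_central (zpowers z) hZc _ hZp
      apply IH _ _ (core_quot_bot _ hO hZc hZp)
      have h1 := Subgroup.card_mul_index (zpowers z)
      rw [Nat.card_zpowers, hzo, Subgroup.index_eq_card] at h1
      have h2 : 0 < Nat.card (X ⧸ zpowers z) := Nat.card_pos
      omega
    · push_neg at hz
      exact bal_of_no_central hO hz IH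

/-- **`L_{2'}`-balance.** -/
theorem lBalance {X : Type u} [Group X] [Finite X] (T : Subgroup X) (hT : IsPGroup 2 T) :
    (pLayer 2 (centralizer (T : Set X))).map (centralizer (T : Set X)).subtype ≤ pLayer 2 X := by
  haveI hp2 : Fact (Nat.Prime 2) := ⟨Nat.prime_two⟩
  have hB : Bal (X ⧸ pPrimeCore 2 X) := bal _ _ rfl pPrimeCore_quotient_eq_bot
  rw [map_le_iff_le_comap]
  apply sSup_le
  intro K hK
  rw [← map_le_iff_le_comap]
  have hW := wc_of_isPComponent hK
  have h1 := le_layerPre_of_bal hB hT hW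
  apply hW.1.map _
  intro g hg k hk
  exact mem_pLayer_of_mem_layerPre (h1 hg) hk

end Cfsg.Agent.Lib.LBal.Main
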